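import Mathlib.GroupTheory.SpecificGroups.Alternating
import Mathlib.Tactic.FinCases

/-!
Small permutation facts for recognising the alternating group of degree nine.
-/

set_option autoImplicit false
set_option maxRecDepth 100000
set_option maxHeartbeats 1000000
set_option synthInstance.maxSize 4096
set_option Elab.async false

namespace Cfsg.Lib.ConwayType.Alt9

open Equiv

/-- The alternating group of degree eight. -/
abbrev A8 := alternatingGroup (Fin 8)

/-- An even permutation of eight points. -/
def el (σ : Perm (Fin 8)) (h : Perm.sign σ = 1 := by decide +kernel) : A8 := ⟨σ, Perm.mem_alternatingGroup.2 h⟩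

/-- The first element of the four-group on four points. -/
def k1 : A8 := el (swap 0 1 * swap 2 3)

/-- The second element of the four-group. -/
def k2 : A8 := el (swap 0 2 * swap 1 3)

/-- A double transposition on the other four points. -/
def xb : A8 := el (swap 4 5 * swap 6 7)

/-- The second double transposition on the other four points. -/
def xb' : A8 := el (swap 4 6 * swap 5 7)

/-- A fixed-point-free involution. -/
def e0 : A8 := el (swap 0 1 * swap 2 3 * swap 4 5 * swap 6 7)

/-- The three-cycle on the first three points. -/
def c0 : A8 := el (swap 0 1 * swap 1 2)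

/-- The element fixing two of the first five points. -/
def h34 : A8 := el (swap 0 1 * swap 3 4)

/-- The three-cycle on 4, 5, 6. -/
def aE : A8 := el (swap 4 5 * swap 5 6)

/-- The three-cycle on 5, 6, 7. -/
def cE : A8 := el (swap 5 6 * swap 6 7)

/-- The odd-odd element exchanging 0, 1 and 5, 6. -/
def dE : A8 := el (swap 0 1 * swap 5 6)

/-- The four elements of the group on the first four points. -/
def kSet : List A8 := [1, k1, k2, k1 * k2]

/-- The four elements of the group on the last four points. -/
def vSet : List A8 := [1, xb, xb', xb * xb']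

/-- The twelve even permutations of the last four points. -/
def a4Set : List A8 := [1, aE, aE * aE].flatMap fun u => vSet.map fun v => u * v

/-- The permutations centralizing the two four-group generators and the double transposition, by values. -/
theorem cent_values : ∀ a b c : Fin 8,
    let f : Fin 8 → Fin 8 := ![a, (k1 : Perm (Fin 8)) a, (k2 : Perm (Fin 8)) a,
      (k1 : Perm (Fin 8)) ((k2 : Perm (Fin 8)) a), b, (xb : Perm (Fin 8)) b, c, (xb : Perm (Fin 8)) c]
    (∀ i, (k1 : Perm (Fin 8)) (f i) = f ((k1 : Perm (Fin 8)) i)) →
    (∀ i, (k2 : Perm (Fin 8)) (f i) = f ((k2 : Perm (Fin 8)) i)) →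
    (∀ i, (xb : Perm (Fin 8)) (f i) = f ((xb : Perm (Fin 8)) i)) →
    (∀ i j, f i = f j → i = j) →
      (∃ u ∈ kSet, ∃ v ∈ vSet, ∀ i, ((u * v : A8) : Perm (Fin 8)) i = f i) ∨
      ∃ u ∈ kSet, ∃ v ∈ vSet, ∀ i, ((u * v : A8) : Perm (Fin 8)) ((swap (4 : Fin 8) 5) i) = f i := by
  decide +kernel

theorem pair_values : ∀ i : Fin 8, i = 0 ∨ i = (k1 : Perm (Fin 8)) 0 ∨ i = (k2 : Perm (Fin 8)) 0 ∨
    i = (k1 : Perm (Fin 8)) ((k2 : Perm (Fin 8)) 0) ∨ i = 4 ∨ i = (xb : Perm (Fin 8)) 4 ∨ i = 6 ∨
      i = (xb : Perm (Fin 8)) 6 := by decide +kernel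

theorem commute_apply {π σ : A8} (h : Commute π σ) (i : Fin 8) :
    (π : Perm (Fin 8)) ((σ : Perm (Fin 8)) i) = (σ : Perm (Fin 8)) ((π : Perm (Fin 8)) i) :=
  congrArg (fun q : A8 => (q : Perm (Fin 8)) i) h.eq

/-- The centralizer of the four-group and the double transposition. -/
theorem cent_small {π : A8} (h1 : Commute π k1) (h2 : Commute π k2) (hx : Commute π xb) :
    ∃ u ∈ kSet, ∃ v ∈ vSet, π = u * v := by
  obtain ⟨f, hf⟩ : ∃ f : Fin 8 → Fin 8, f = ![(π : Perm (Fin 8)) 0, (k1 : Perm (Fin 8)) ((π : Perm (Fin 8)) 0),
      (k2 : Perm (Fin 8)) ((π : Perm (Fin 8)) 0), (k1 : Perm (Fin 8)) ((k2 : Perm (Fin 8)) ((π : Perm (Fin 8)) 0)),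
      (π : Perm (Fin 8)) 4, (xb : Perm (Fin 8)) ((π : Perm (Fin 8)) 4), (π : Perm (Fin 8)) 6,
      (xb : Perm (Fin 8)) ((π : Perm (Fin 8)) 6)] := ⟨_, rfl⟩
  have key : ∀ i, f i = (π : Perm (Fin 8)) i := by
    intro i
    rw [hf]
    fin_cases i <;> symm
    · rfl
    · exact commute_apply h1 0
    · exact commute_apply h2 0
    · exact (commute_apply h1 ((k2 : Perm (Fin 8)) 0)).trans (congrArg _ (commute_apply h2 0))
    · rfl
    · exact commute_apply hx 4
    · rfl
    · exact commute_apply hx 6
  have := cent_values ((π : Perm (Fin 8)) 0) ((π : Perm (Fin 8)) 4) ((π : Perm (Fin 8)) 6)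
  simp only [← hf, key] at this
  rcases this (fun i => (commute_apply h1 i).symm) (fun i => (commute_apply h2 i).symm) (fun i => (commute_apply hx i).symm)
      (fun i j e => (π : Perm (Fin 8)).injective e) with ⟨u, hu, v, hv, e⟩ | ⟨u, hu, v, hv, e⟩
  · exact ⟨u, hu, v, hv, Subtype.ext (Equiv.ext fun i => (e i).symm)⟩
  · exfalso
    have e' : ((u * v : A8) : Perm (Fin 8)) * swap (4 : Fin 8) 5 = (π : Perm (Fin 8)) := Equiv.ext fun i => e i
    have h := congrArg Perm.sign e'
    rw [map_mul, Perm.mem_alternatingGroup.mp (u * v).2, Perm.mem_alternatingGroup.mp π.2] at h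
    exact absurd h (by decide +kernel)

/-- Agreement of a product with a permutation point by point. -/
def sameVal (x y : A8) : Bool :=
  (List.finRange 8).all fun i => (x : Perm (Fin 8)) i == (y : Perm (Fin 8)) i

/-- Point-by-point commuting. -/
def commVal (x y : A8) : Bool :=
  (List.finRange 8).all fun i =>
    (x : Perm (Fin 8)) ((y : Perm (Fin 8)) i) == (y : Perm (Fin 8)) ((x : Perm (Fin 8)) i)

theorem commVal_of {x y : A8} (h : Commute x y) : commVal x y = true :=
  List.all_eq_true.mpr fun i _ => beq_iff_eq.mpr (commute_apply h i)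

theorem eq_of_sameVal {x y : A8} (h : sameVal x y = true) : x = y :=
  Subtype.ext (Equiv.ext fun i => beq_iff_eq.mp (List.all_eq_true.mp h i (List.mem_finRange i)))

theorem outside_check : (kSet.all fun u => a4Set.all fun v =>
    !(commVal (u * v) c0 && commVal (u * v) k1 && commVal (u * v) h34) ||
      [1, cE, cE * cE].any fun w => sameVal (u * v) w) = true := by
  decide +kernel

/-- Products from the two four-groups meeting the symmetric pairs. -/
theorem outside_fifths {u v : A8} (hu : u ∈ kSet) (hv : v ∈ a4Set) (h1 : Commute (u * v) c0)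
    (h2 : Commute (u * v) k1) (h3 : Commute (u * v) h34) : u * v ∈ [1, cE, cE * cE] := by
  have := List.all_eq_true.mp (List.all_eq_true.mp outside_check u hu) v hv
  rw [commVal_of h1, commVal_of h2, commVal_of h3] at this
  simp only [Bool.and_true, Bool.not_true, Bool.false_or] at this
  obtain ⟨w, hw, e⟩ := List.any_eq_true.mp this
  exact eq_of_sameVal e ▸ hw

/-- Five points. -/
abbrev P5 := Perm (Fin 5)

/-- The standard three-cycle. -/
def a5 : P5 := swap 0 1 * swap 1 2

/-- The standard double transposition. -/
def b5 : P5 := swap 0 1 * swap 2 3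

/-- The second three-cycle as a word. -/
def cw {H : Type*} [Group H] (a b : H) : H := (a * b * a⁻¹ * a * (a * b * a⁻¹))⁻¹

/-- The standard element inverting the three-cycle. -/
def k5 : P5 := swap 1 2 * swap 3 4

/-- Any pair generating a tetrahedral group is the standard one up to renaming. -/
theorem normal_pair : ∀ a : P5, a * a * a = 1 → a ≠ 1 → ∀ b : P5, b * b = 1 → b ≠ 1 → Perm.sign b = 1 →
    a * b * (a * b) * (a * b) = 1 → ∃ σ : P5, σ * a = a5 * σ ∧ σ * b = b5 * σ := by
  decide +kernel

/-- The words used to leave the normalizer of a three-cycle. -/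
def words : List (List Bool) := [
    [false, true, true, false, true], [false, true, false, true, true], [true, false, false, true, true, false],
    [true, true, false, false, true, false], [true, false, false, true, true], [true, true, false, true, false, false],
    [true, true, true, false, false, true], [false, true, false, true, false, false, true, false], [true, true, false, true],
    [true, true, true, true, false, true], [true, false, false, true, false, true], [false, false, true, true, false, false, true, false],
    [true, false, true, true], [true, true, false, true, false], [true, false, true, true, true, true],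
    [true, true, false, true, true, true], [true, true, true, false, true, true], [false, false, true, false, true, true],
    [false, true, true, true, false, true], [false, true, false, false, true, false, true, false], [true, true, true, false, false, true, false, false],
    [true, false, true, false, true, false, false, true], [true, false, true, false, false, true, false, false], [true, false, false, true, false, true, false, false]]

/-- The value of a word. -/
def wv {H : Type*} [Group H] (c x : H) : List Bool → H
  | [] => 1
  | s :: l => (bif s then x else c) * wv c x l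

/-- Outside the normalizer of the three-cycle some word reaches one of two elements. -/
theorem word_reach : ∀ x : P5, Perm.sign x = 1 →
    (x * cw a5 b5 = cw a5 b5 * x ∨ x * cw a5 b5 = (cw a5 b5)⁻¹ * x) ∨
      ∃ w ∈ words, wv (cw a5 b5) x w = a5 ∨ wv (cw a5 b5) x w = k5 := by
  decide +kernel

/-- The normalizer of the three-cycle has six even elements. -/
theorem six_only : (Finset.univ.filter fun x : P5 => Perm.sign x = 1 ∧
    (x * cw a5 b5 = cw a5 b5 * x ∨ x * cw a5 b5 = (cw a5 b5)⁻¹ * x)).card ≤ 6 := by
  decide +kernel

/-- The inverting element is unique. -/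
theorem unique_k : ∀ k : P5, Perm.sign k = 1 → k * k = 1 → k ≠ 1 → k * a5 * k = a5⁻¹ →
    cw a5 b5 * k * (cw a5 b5 * k) * (cw a5 b5 * k) = 1 → k = k5 := by
  decide +kernel

theorem k5_facts : Perm.sign k5 = 1 ∧ k5 * k5 = 1 ∧ k5 ≠ 1 ∧ k5 * a5 * k5 = a5⁻¹ ∧
    cw a5 b5 * k5 * (cw a5 b5 * k5) * (cw a5 b5 * k5) = 1 := by decide +kernel

theorem cE_word : cw aE xb = cE := by decide +kernel

end Cfsg.Lib.ConwayType.Alt9
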