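import Cfsg.Agent.ConwayType.Distinct
import Cfsg.Agent.S3277
import Cfsg.Agent.ConwayType.Locals.Alt9.Small

/-!
An element extending the alternating group of degree eight.
-/

set_option autoImplicit false
set_option maxRecDepth 100000
set_option maxHeartbeats 1000000
set_option linter.unusedSectionVars false
set_option linter.style.haveILetI false

namespace Cfsg.Lib.ConwayType.Alt9

open Subgroup Equiv

universe u

/-- The four elements on the first points agree with their checks. -/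
theorem set_checks :
    (kSet.all fun x => kSet.all fun y => kSet.any fun w => sameVal (x * y) w) = true ∧
    (vSet.all fun x => vSet.all fun y => vSet.any fun w => sameVal (x * y) w) = true ∧
    (a4Set.all fun x => a4Set.all fun y => a4Set.any fun w => sameVal (x * y) w) = true ∧
    ((List.range 12).all fun i => (List.range 12).all fun j =>
      i == j || !sameVal (a4Set.getD i 1) (a4Set.getD j 1)) = true ∧
    (kSet.all fun x => a4Set.all fun y => commVal x y) = true ∧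
    (a4Set.all fun y => commVal y c0) = true ∧
    (kSet.all fun x => sameVal x 1 || !commVal x c0) = true ∧
    (kSet.all fun x => a4Set.all fun y => !sameVal x y || sameVal x 1) = true ∧
    (kSet.all fun x => kSet.any fun w => sameVal (dE * x * dE) w) = true ∧
    (vSet.all fun x => a4Set.any fun w => sameVal x w) = true ∧ a4Set.length = 12 := by
  decide +kernel

theorem elt_facts :
    sameVal (k1 * xb) e0 = true ∧ commVal k1 k2 = true ∧ sameVal k2 (c0⁻¹ * k1 * c0) = true ∧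
    sameVal (el (swap 1 2 * swap 4 5) * e0 * (el (swap 1 2 * swap 4 5))⁻¹) (k2 * xb) = true ∧
    sameVal (el (swap 1 3 * swap 4 5) * e0 * (el (swap 1 3 * swap 4 5))⁻¹) (k1 * k2 * xb) = true ∧
    sameVal (el (swap 0 4 * swap 1 5 * swap 2 6 * swap 3 7) * k1 * (el (swap 0 4 * swap 1 5 * swap 2 6 * swap 3 7))⁻¹) xb = true ∧
    sameVal (dE * dE) 1 = true ∧ sameVal (dE * aE * dE) aE⁻¹ = true ∧ sameVal (dE * cE * dE) cE⁻¹ = true ∧
    sameVal (dE * c0 * dE) c0⁻¹ = true ∧ sameVal (dE * k1 * dE) k1 = true ∧ sameVal (dE * h34 * dE) h34 = true ∧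
    sameVal (el (swap 0 1 * swap 4 5)) (dE * aE⁻¹) = true ∧ sameVal (el (swap 0 1 * swap 6 7) * dE) cE⁻¹ = true ∧
    commVal aE h34 = false ∧ sameVal (xb * xb) 1 = true ∧ sameVal (xb) 1 = false ∧ sameVal (aE * aE * aE) 1 = true ∧
    sameVal aE 1 = false ∧ sameVal (aE * xb * (aE * xb) * (aE * xb)) 1 = true ∧
    sameVal (aE * xb) (xb * aE) = false ∧ sameVal (k1 * k1) 1 = true ∧
    commVal cE c0 = true ∧ commVal cE k1 = true ∧ commVal cE h34 = true ∧
    sameVal (aE * xb * aE⁻¹) xb = false ∧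
    (a4Set.any fun w => sameVal aE w) = true ∧ (a4Set.any fun w => sameVal cE w) = true := by
  decide +kernel

theorem ε_check : sameVal (aE * (xb * aE⁻¹ * xb⁻¹) * (aE * (xb * aE⁻¹ * xb⁻¹))) 1 = true ∧
    sameVal (aE * (xb * aE⁻¹ * xb⁻¹)) 1 = false := by decide +kernel

theorem conj_check : (vSet.all fun w => vSet.all fun v => sameVal v 1 || (sameVal w 1 || sameVal w v ||
    sameVal w (aE * v * aE⁻¹) || sameVal w (aE⁻¹ * v * aE⁻¹⁻¹))) = true := by decide +kernel

theorem sameVal_iff {x y : A8} : sameVal x y = true ↔ x = y := by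
  refine ⟨eq_of_sameVal, ?_⟩
  rintro rfl
  exact List.all_eq_true.mpr fun i _ => beq_iff_eq.mpr rfl

theorem commute_of_commVal {x y : A8} (h : commVal x y = true) : Commute x y :=
  Subtype.ext (Equiv.ext fun i => beq_iff_eq.mp (List.all_eq_true.mp h i (List.mem_finRange i)))

theorem commVal_iff {x y : A8} : commVal x y = true ↔ Commute x y := ⟨commute_of_commVal, commVal_of⟩

/-- The subgroup given by a closed list. -/
def listGroup (l : List A8) (h1 : 1 ∈ l) (h : (l.all fun x => l.all fun y => l.any fun w => sameVal (x * y) w) = true) :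
    Subgroup A8 where
  carrier := {x | x ∈ l}
  one_mem' := h1
  mul_mem' := fun {a b} ha hb => by
    obtain ⟨w, hw, e⟩ := List.any_eq_true.mp (List.all_eq_true.mp (List.all_eq_true.mp h a ha) b hb)
    exact eq_of_sameVal e ▸ hw
  inv_mem' := fun {a} ha => by
    have hp : ∀ n : ℕ, a ^ n ∈ l := fun n => by
      induction n with
      | zero => simpa using h1
      | succ n ih =>
        obtain ⟨w, hw, e⟩ := List.any_eq_true.mp (List.all_eq_true.mp (List.all_eq_true.mp h _ ih) a ha)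
        rw [pow_succ]
        exact eq_of_sameVal e ▸ hw
    have := hp (orderOf a - 1)
    rw [pow_sub a (orderOf_pos a), pow_orderOf_eq_one, one_mul, pow_one] at this
    exact this

theorem mem_listGroup {l : List A8} {h1 h} {x : A8} : x ∈ listGroup l h1 h ↔ x ∈ l := Iff.rfl

/-- The four-group on the first points. -/
def K8 : Subgroup A8 := listGroup kSet (by simp [kSet]) set_checks.1

/-- The four-group on the last points. -/
def V8 : Subgroup A8 := listGroup vSet (by simp [vSet]) set_checks.2.1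

/-- The tetrahedral group on the last points. -/
def A4g : Subgroup A8 := listGroup a4Set (by simp [a4Set, vSet]) set_checks.2.2.1

theorem card_A4g : Nat.card ↥A4g = 12 := by
  obtain ⟨-, -, -, hd, -, -, -, -, -, -, hlen⟩ := set_checks
  have e : Nat.card ↥A4g = Nat.card {x : A8 // x ∈ a4Set} := rfl
  have hnd : a4Set.Nodup := by
    rw [List.nodup_iff_injective_getElem]
    rintro ⟨i, hi⟩ ⟨j, hj⟩ e
    have := List.all_eq_true.mp (List.all_eq_true.mp hd i (List.mem_range.mpr (hlen ▸ hi))) j (List.mem_range.mpr (hlen ▸ hj))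
    rw [List.getD_eq_getElem _ _ hi, List.getD_eq_getElem _ _ hj] at this
    simp only at e
    rw [e, sameVal_iff.mpr rfl] at this
    exact Fin.ext (by simpa using this)
  classical
  rw [e, Nat.card_congr (Equiv.subtypeEquivRight fun x => List.mem_toFinset.symm), Nat.card_eq_fintype_card,
    Fintype.card_coe, List.toFinset_card_of_nodup hnd, hlen]

theorem xb_mem : xb ∈ A4g := by
  obtain ⟨w, hw, e⟩ := List.any_eq_true.mp (List.all_eq_true.mp set_checks.2.2.2.2.2.2.2.2.2.1 xb (by simp [vSet]))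
  exact eq_of_sameVal e ▸ hw

theorem aE_mem : aE ∈ A4g ∧ cE ∈ A4g := by
  obtain ⟨w, hw, e⟩ := List.any_eq_true.mp elt_facts.2.2.2.2.2.2.2.2.2.2.2.2.2.2.2.2.2.2.2.2.2.2.2.2.2.2.1
  obtain ⟨w', hw', e'⟩ := List.any_eq_true.mp elt_facts.2.2.2.2.2.2.2.2.2.2.2.2.2.2.2.2.2.2.2.2.2.2.2.2.2.2.2
  exact ⟨eq_of_sameVal e ▸ hw, eq_of_sameVal e' ▸ hw'⟩

theorem v_checks :
    (vSet.all fun w => commVal w xb && sameVal (w * w) 1) = true ∧
    ((List.range 4).all fun i => (List.range 4).all fun j => i == j || !sameVal (vSet.getD i 1) (vSet.getD j 1)) = true ∧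
    vSet.length = 4 := by
  decide +kernel

theorem card_V8 : Nat.card ↥V8 = 4 := by
  classical
  obtain ⟨-, hd, hlen⟩ := v_checks
  have hnd : vSet.Nodup := by
    rw [List.nodup_iff_injective_getElem]
    rintro ⟨i, hi⟩ ⟨j, hj⟩ e
    have := List.all_eq_true.mp (List.all_eq_true.mp hd i (List.mem_range.mpr (hlen ▸ hi))) j (List.mem_range.mpr (hlen ▸ hj))
    rw [List.getD_eq_getElem _ _ hi, List.getD_eq_getElem _ _ hj] at this
    simp only at e
    rw [e, sameVal_iff.mpr rfl] at this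
    exact Fin.ext (by simpa using this)
  have e : Nat.card ↥V8 = Nat.card {x : A8 // x ∈ vSet} := rfl
  rw [e, Nat.card_congr (Equiv.subtypeEquivRight fun x => List.mem_toFinset.symm), Nat.card_eq_fintype_card,
    Fintype.card_coe, List.toFinset_card_of_nodup hnd, hlen]

/-- The hypotheses of the recognition of the alternating group of degree nine. -/
structure Hyp (X : Type u) [Group X] [Finite X] where
  ι : A8 →* X
  inj : Function.Injective ι
  cent : ∀ y : X, Commute y (ι e0) → y ∈ ι.range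
  sep : ¬ IsConj (ι k1) (ι e0)
  big : 12 ≤ Nat.card ↥(centralizer ({ι c0, ι k1, ι h34} : Set X))

namespace Hyp

variable {X : Type u} [Group X] [Finite X] (H : Hyp X)

/-- The centralizer of the three generators on five points. -/
def T : Subgroup X := centralizer ({H.ι c0, H.ι k1, H.ι h34} : Set X)

theorem mem_T {y : X} : y ∈ H.T ↔ Commute y (H.ι c0) ∧ Commute y (H.ι k1) ∧ Commute y (H.ι h34) := by
  rw [T, mem_centralizer_iff]
  simp only [Set.mem_insert_iff, Set.mem_singleton_iff, forall_eq_or_imp, forall_eq, commute_iff_eq]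
  exact ⟨fun h => ⟨h.1.symm, h.2.1.symm, h.2.2.symm⟩, fun h => ⟨h.1.symm, h.2.1.symm, h.2.2.symm⟩⟩

/-- The centralizer of the four-group. -/
def L : Subgroup X := centralizer ({H.ι k1, H.ι k2} : Set X)

theorem mem_L {y : X} : y ∈ H.L ↔ Commute y (H.ι k1) ∧ Commute y (H.ι k2) := by
  rw [L, mem_centralizer_iff]
  simp only [Set.mem_insert_iff, Set.mem_singleton_iff, forall_eq_or_imp, forall_eq, commute_iff_eq]
  exact ⟨fun h => ⟨h.1.symm, h.2.symm⟩, fun h => ⟨h.1.symm, h.2.symm⟩⟩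

theorem K_comm {y : X} (hy : y ∈ H.L) {κ : A8} (hκ : κ ∈ K8) : Commute y (H.ι κ) := by
  obtain ⟨h1, h2⟩ := H.mem_L.mp hy
  have hκ' : κ ∈ kSet := hκ
  simp only [kSet, List.mem_cons, List.not_mem_nil, or_false] at hκ'
  rcases hκ' with rfl | rfl | rfl | rfl
  · rw [map_one]; exact Commute.one_right y
  · exact h1
  · exact h2
  · rw [map_mul]; exact h1.mul_right h2

theorem T_le : H.T ≤ H.L := fun y hy => by
  obtain ⟨h0, h1, -⟩ := H.mem_T.mp hy
  refine H.mem_L.mpr ⟨h1, ?_⟩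
  rw [eq_of_sameVal elt_facts.2.2.1, map_mul, map_mul, map_inv]
  exact (h0.inv_right.mul_right h1).mul_right h0

theorem map_comm {π σ : A8} (h : commVal π σ = true) : Commute (H.ι π) (H.ι σ) := (commute_of_commVal h).map H.ι

theorem comm_of_map {π σ : A8} (h : Commute (H.ι π) (H.ι σ)) : Commute π σ := H.inj (by rw [map_mul, map_mul]; exact h.eq)

theorem k_mem_L {κ : A8} (hκ : κ ∈ K8) : H.ι κ ∈ H.L := by
  have hc := eq_of_sameVal (x := k1 * k1) elt_facts.2.2.2.2.2.2.2.2.2.2.2.2.2.2.2.2.2.2.2.2.2.1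
  have h12 := commute_of_commVal elt_facts.2.1
  have hκ' : κ ∈ kSet := hκ
  simp only [kSet, List.mem_cons, List.not_mem_nil, or_false] at hκ'
  rcases hκ' with rfl | rfl | rfl | rfl
  · rw [map_one]; exact one_mem _
  · exact H.mem_L.mpr ⟨Commute.refl _, h12.map H.ι⟩
  · exact H.mem_L.mpr ⟨(h12.map H.ι).symm, Commute.refl _⟩
  · rw [map_mul]
    exact mul_mem (H.mem_L.mpr ⟨Commute.refl _, h12.map H.ι⟩) (H.mem_L.mpr ⟨(h12.map H.ι).symm, Commute.refl _⟩)

theorem a4_mem_L {v : A8} (hv : v ∈ A4g) : H.ι v ∈ H.L := by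
  have h := set_checks.2.2.2.2.1
  exact H.mem_L.mpr ⟨(H.map_comm (List.all_eq_true.mp (List.all_eq_true.mp h k1 (by simp [kSet])) v hv)).symm,
    (H.map_comm (List.all_eq_true.mp (List.all_eq_true.mp h k2 (by simp [kSet])) v hv)).symm⟩

theorem a4_comm {v : A8} (hv : v ∈ A4g) : Commute (H.ι v) (H.ι c0) :=
  H.map_comm (List.all_eq_true.mp set_checks.2.2.2.2.2.1 v hv)

/-- The four-group inside its centralizer. -/
def KL : Subgroup ↥H.L := (K8.map H.ι).subgroupOf H.L

theorem mem_KL {y : ↥H.L} : y ∈ H.KL ↔ ∃ κ ∈ K8, H.ι κ = (y : X) := by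
  rw [KL, mem_subgroupOf, Subgroup.mem_map]

instance KL_normal : H.KL.Normal where
  conj_mem y hy g := by
    obtain ⟨κ, hκ, e⟩ := H.mem_KL.mp hy
    refine H.mem_KL.mpr ⟨κ, hκ, ?_⟩
    show H.ι κ = (g : X) * (y : X) * (g : X)⁻¹
    rw [← e, (H.K_comm g.2 hκ).eq, mul_inv_cancel_right]

/-- The tetrahedral group in the quotient. -/
noncomputable def θ : ↥A4g →* ↥H.L ⧸ H.KL where
  toFun v := QuotientGroup.mk (⟨H.ι v, H.a4_mem_L v.2⟩ : ↥H.L)
  map_one' := (QuotientGroup.eq_one_iff _).mpr (H.mem_KL.mpr ⟨1, one_mem _, by simp⟩)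
  map_mul' a b := by
    rw [← QuotientGroup.mk_mul]
    exact congrArg _ (Subtype.ext (map_mul H.ι _ _))

theorem θ_inj : Function.Injective H.θ := (injective_iff_map_eq_one H.θ).mpr fun v hv => by
  obtain ⟨κ, hκ, e⟩ := H.mem_KL.mp ((QuotientGroup.eq_one_iff _).mp hv)
  have e' : κ = (v : A8) := H.inj e
  have := List.all_eq_true.mp (List.all_eq_true.mp set_checks.2.2.2.2.2.2.2.1 κ hκ) v v.2
  rw [sameVal_iff.mpr e', Bool.not_true, Bool.false_or] at this
  exact Subtype.ext (e'.symm.trans (eq_of_sameVal this))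

/-- The involution in the quotient. -/
noncomputable def xq : ↥H.L ⧸ H.KL := H.θ ⟨xb, xb_mem⟩

theorem mk_θ {v : A8} (hv : v ∈ A4g) {y : ↥H.L} (e : H.ι v = (y : X)) : (QuotientGroup.mk y : ↥H.L ⧸ H.KL) = H.θ ⟨v, hv⟩ :=
  congrArg _ (Subtype.ext e.symm)

/-- The centralizer of the involution in the quotient. -/
theorem cent_xq (q : ↥H.L ⧸ H.KL) : Commute q H.xq → ∃ v : ↥A4g, (v : A8) ∈ vSet ∧ q = H.θ v := by
  induction q using QuotientGroup.induction_on with
  | _ y =>
    intro hc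
    obtain ⟨x, hx⟩ : ∃ x : ↥H.L, x = ⟨H.ι xb, H.a4_mem_L xb_mem⟩ := ⟨_, rfl⟩
    have hq : H.xq = QuotientGroup.mk x := by rw [hx]; rfl
    rw [hq, commute_iff_eq, ← QuotientGroup.mk_mul, ← QuotientGroup.mk_mul] at hc
    obtain ⟨κ, hκ, e⟩ := H.mem_KL.mp (QuotientGroup.eq.mp hc.symm)
    have e' : (y : X) * H.ι xb * (y : X)⁻¹ = H.ι xb * H.ι κ := by
      have e2 : H.ι κ = (H.ι xb * (y : X))⁻¹ * ((y : X) * H.ι xb) := by rw [e, hx]; rfl
      calc (y : X) * H.ι xb * (y : X)⁻¹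
          = H.ι xb * ((y : X) * ((H.ι xb * (y : X))⁻¹ * ((y : X) * H.ι xb)) * (y : X)⁻¹) := by group
        _ = H.ι xb * ((y : X) * H.ι κ * (y : X)⁻¹) := by rw [e2]
        _ = H.ι xb * H.ι κ := by rw [(H.K_comm y.2 hκ).eq, mul_inv_cancel_right]
    obtain ⟨he0, -, -, hc2, hc3, hcx, -⟩ := elt_facts
    have hconj : IsConj (H.ι k1) ((y : X) * H.ι xb * (y : X)⁻¹) := by
      refine IsConj.trans (isConj_iff.mpr ⟨H.ι (el (swap 0 4 * swap 1 5 * swap 2 6 * swap 3 7)), ?_⟩) (isConj_iff.mpr ⟨(y : X), rfl⟩)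
      rw [← map_inv, ← map_mul, ← map_mul, eq_of_sameVal hcx]
    have hκ' : κ ∈ kSet := hκ
    have hone : κ = 1 := by
      rw [e', ← map_mul] at hconj
      have hck : Commute xb κ := by
        refine (commute_of_commVal (List.all_eq_true.mp (List.all_eq_true.mp set_checks.2.2.2.2.1 κ hκ') xb xb_mem)).symm
      rw [hck.eq] at hconj
      simp only [kSet, List.mem_cons, List.not_mem_nil, or_false] at hκ'
      rcases hκ' with rfl | rfl | rfl | rfl
      · rfl
      · exact absurd (eq_of_sameVal he0 ▸ hconj) H.sep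
      · refine absurd (hconj.trans (IsConj.symm ?_)) H.sep
        rw [← eq_of_sameVal hc2, map_mul, map_mul, map_inv]
        exact isConj_iff.mpr ⟨_, rfl⟩
      · refine absurd (hconj.trans (IsConj.symm ?_)) H.sep
        rw [← eq_of_sameVal hc3, map_mul, map_mul, map_inv]
        exact isConj_iff.mpr ⟨_, rfl⟩
    rw [hone, map_one, mul_one] at e'
    have hyx : Commute (y : X) (H.ι xb) := mul_inv_eq_iff_eq_mul.mp e'
    obtain ⟨h1, h2⟩ := H.mem_L.mp y.2
    obtain ⟨π, hπ⟩ := H.cent y (by rw [← eq_of_sameVal he0, map_mul]; exact h1.mul_right hyx)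
    rw [← hπ] at h1 h2 hyx
    obtain ⟨u, hu, v, hv, euv⟩ := cent_small (H.comm_of_map h1) (H.comm_of_map h2) (H.comm_of_map hyx)
    obtain ⟨w, hw, ew⟩ := List.any_eq_true.mp (List.all_eq_true.mp set_checks.2.2.2.2.2.2.2.2.2.1 v hv)
    have hvA : v ∈ A4g := eq_of_sameVal ew ▸ hw
    refine ⟨⟨v, hvA⟩, hv, ?_⟩
    rw [← H.mk_θ hvA (y := ⟨H.ι v, H.a4_mem_L hvA⟩) rfl]
    refine QuotientGroup.eq.mpr (H.mem_KL.mpr ⟨u⁻¹, inv_mem hu, ?_⟩)
    show H.ι u⁻¹ = (y : X)⁻¹ * H.ι v
    rw [← hπ, euv, map_mul, map_inv, mul_inv_rev]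
    have hcm := (commute_of_commVal (List.all_eq_true.mp (List.all_eq_true.mp set_checks.2.2.2.2.1 u hu) v hvA)).map H.ι
    rw [mul_assoc, ← map_inv, ← map_inv, ← map_mul, ← map_mul]
    congr 1
    rw [(commute_of_commVal (List.all_eq_true.mp (List.all_eq_true.mp set_checks.2.2.2.2.1 u hu) v hvA)).inv_left.eq]
    group

theorem θ_basic : H.xq * H.xq = 1 ∧ H.xq ≠ 1 ∧ ∀ v : ↥A4g, (v : A8) ∈ vSet → Commute (H.θ v) H.xq := by
  obtain ⟨-, -, -, -, -, -, -, -, -, -, -, -, -, -, -, hxx, hx1, -⟩ := elt_facts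
  refine ⟨?_, fun e => ?_, fun v hv => ?_⟩
  · rw [xq, ← map_mul, show (⟨xb, xb_mem⟩ : ↥A4g) * ⟨xb, xb_mem⟩ = 1 from Subtype.ext (eq_of_sameVal hxx), map_one]
  · have := congrArg Subtype.val (H.θ_inj (e.trans (map_one _).symm))
    rw [sameVal_iff.mpr (show xb = 1 from this)] at hx1
    exact absurd hx1 (by simp)
  · refine Commute.map ((commute_iff_eq v _).mpr (Subtype.ext ?_)) H.θ
    exact (commute_of_commVal (Bool.and_eq_true_iff.mp (List.all_eq_true.mp v_checks.1 v hv)).1).eq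

theorem card_cent : Nat.card ↥(centralizer ({H.xq} : Set (↥H.L ⧸ H.KL))) = 4 ∧
    ∀ q ∈ centralizer ({H.xq} : Set (↥H.L ⧸ H.KL)), q ^ 2 = 1 := by
  obtain ⟨-, -, hcomm⟩ := H.θ_basic
  have hV : ∀ w ∈ vSet, w ∈ A4g := fun w hw => by
    obtain ⟨u, hu, e⟩ := List.any_eq_true.mp (List.all_eq_true.mp set_checks.2.2.2.2.2.2.2.2.2.1 w hw)
    exact eq_of_sameVal e ▸ hu
  let f : ↥V8 →* ↥H.L ⧸ H.KL := H.θ.comp (Subgroup.inclusion fun w hw => hV w hw)
  have hf : Function.Injective f := H.θ_inj.comp (Subgroup.inclusion_injective _)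
  have hr : f.range = centralizer ({H.xq} : Set (↥H.L ⧸ H.KL)) := by
    refine le_antisymm ?_ fun q hq => ?_
    · rintro _ ⟨w, rfl⟩
      exact mem_centralizer_singleton_iff.mpr (hcomm _ w.2)
    · obtain ⟨v, hv, rfl⟩ := H.cent_xq q (mem_centralizer_singleton_iff.mp hq)
      exact ⟨⟨v, hv⟩, rfl⟩
  refine ⟨?_, fun q hq => ?_⟩
  · rw [← hr, ← Nat.card_congr (MonoidHom.ofInjective hf).toEquiv, card_V8]
  · rw [← hr] at hq
    obtain ⟨w, rfl⟩ := hq
    rw [← map_pow, show w ^ 2 = 1 from ?_, map_one]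
    exact Subtype.ext (by
      rw [pow_two]
      exact eq_of_sameVal (Bool.and_eq_true_iff.mp (List.all_eq_true.mp v_checks.1 w w.2)).2)

theorem θ_card : Nat.card ↥H.θ.range = 12 := by
  rw [← Nat.card_congr (MonoidHom.ofInjective H.θ_inj).toEquiv, card_A4g]

/-- The centralizer of the four-group is larger than the four-group times the tetrahedral group. -/
theorem θ_not_top : ∃ t ∈ H.T, ∀ v : ↥A4g, ∀ y : ↥H.L, (y : X) = t → (QuotientGroup.mk y : ↥H.L ⧸ H.KL) ≠ H.θ v := by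
  classical
  by_contra hall
  push_neg at hall
  have hsub : (H.T : Set X) ⊆ ↑(([1, cE, cE * cE] : List A8).toFinset.image H.ι) := by
    intro t ht
    obtain ⟨v, y, hy, e⟩ := hall t ht
    obtain ⟨κ, hκ, e'⟩ := H.mem_KL.mp (QuotientGroup.eq.mp e.symm)
    have et : t = H.ι ((v : A8) * κ) := by
      rw [map_mul, e', ← hy]
      show (y : X) = H.ι v * ((H.ι v)⁻¹ * y)
      rw [mul_inv_cancel_left]
    obtain ⟨h0, h1, h2⟩ := H.mem_T.mp ht
    rw [et] at h0 h1 h2
    have hcm : Commute (v : A8) κ :=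
      (commute_of_commVal (List.all_eq_true.mp (List.all_eq_true.mp set_checks.2.2.2.2.1 κ hκ) v v.2)).symm
    rw [Finset.mem_coe, Finset.mem_image]
    refine ⟨(v : A8) * κ, List.mem_toFinset.mpr ?_, et.symm⟩
    rw [hcm.eq] at h0 h1 h2 ⊢
    exact outside_fifths hκ v.2 (H.comm_of_map h0) (H.comm_of_map h1) (H.comm_of_map h2)
  have h := H.big
  have h3 := Set.ncard_le_ncard hsub (Finset.finite_toSet _)
  rw [Set.ncard_coe_finset] at h3
  have h4 := (Finset.card_image_le (f := H.ι)).trans (List.toFinset_card_le ([1, cE, cE * cE] : List A8))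
  rw [← Nat.card_coe_set_eq] at h3
  have h5 : Nat.card ↥H.T ≤ 3 := h3.trans (by simpa using h4)
  change 12 ≤ Nat.card ↥H.T at h
  omega

/-- The quotient is icosahedral. -/
theorem quot_five : Nonempty ((↥H.L ⧸ H.KL) ≃* ↥(alternatingGroup (Fin 5))) := by
  obtain ⟨hxx, hx1, hcomm⟩ := H.θ_basic
  obtain ⟨hC4, hCe⟩ := H.card_cent
  haveI : Fact (Nat.Prime 2) := ⟨Nat.prime_two⟩
  have ord : orderOf H.xq = 2 := orderOf_eq_prime (by rw [pow_two, hxx]) hx1
  obtain ⟨-, -, -, -, -, -, -, -, -, -, -, -, -, -, -, -, -, ha3, -, -, hax, -, -, -, -, hne', -⟩ := elt_facts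
  obtain ⟨α, hαdef⟩ : ∃ α : ↥A4g, α = ⟨aE, aE_mem.1⟩ := ⟨_, rfl⟩
  obtain ⟨χ, hχdef⟩ : ∃ χ : ↥A4g, χ = ⟨xb, xb_mem⟩ := ⟨_, rfl⟩
  have hχ : H.θ χ = H.xq := by rw [hχdef]; rfl
  refine Cfsg.Agent.S3277.result H.xq ord hC4 hCe ?_ ?_
  · rintro ⟨P, N, hN, hcompl⟩
    obtain ⟨k, hk⟩ := P.2.exists_card_eq
    have hidx : N.index = Nat.card ↥(P : Subgroup (↥H.L ⧸ H.KL)) := hcompl.symm.index_eq_card
    have hodd : ¬ 2 ∣ Nat.card ↥N := fun h2 => by
      have hmul : Nat.card ↥N * Nat.card ↥(P : Subgroup (↥H.L ⧸ H.KL)) = Nat.card (↥H.L ⧸ H.KL) := by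
        rw [← hidx, Subgroup.card_mul_index]
      obtain ⟨a, ha⟩ := h2
      have := P.pow_dvd_card_of_pow_dvd_card (n := k + 1) ⟨a, by rw [← hmul, ha, hk, pow_succ]; ring⟩
      rw [hk] at this
      have := Nat.le_of_dvd (by positivity) this
      have := Nat.pow_lt_pow_right (show 1 < 2 by norm_num) (Nat.lt_succ_self k)
      omega
    have inN : ∀ q : ↥H.L ⧸ H.KL, q ^ 3 = 1 → q ∈ N := fun q hq => by
      rw [← QuotientGroup.eq_one_iff]
      refine orderOf_eq_one_iff.mp ?_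
      have h1 : orderOf (QuotientGroup.mk q : (↥H.L ⧸ H.KL) ⧸ N) ∣ 3 := orderOf_dvd_of_pow_eq_one (by
        rw [← QuotientGroup.mk_pow, hq, QuotientGroup.mk_one])
      have h2 := orderOf_dvd_natCard (QuotientGroup.mk q : (↥H.L ⧸ H.KL) ⧸ N)
      rw [← Subgroup.index_eq_card, hidx, hk] at h2
      have h3 : Nat.Coprime 3 (2 ^ k) := (by decide : Nat.Coprime 3 2).pow_right k
      exact Nat.eq_one_of_dvd_coprimes h3 h1 h2
    have hα : α ^ 3 = 1 := Subtype.ext (by
      rw [hαdef, SubmonoidClass.coe_pow, pow_three, ← mul_assoc]; exact eq_of_sameVal ha3)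
    have m1 := inN (H.θ α) (by rw [← map_pow, hα, map_one])
    have m2 := inN (H.θ (χ * α⁻¹ * χ⁻¹)) (by
      rw [← map_pow, conj_pow, inv_pow, hα, inv_one, mul_one, mul_inv_cancel, map_one])
    obtain ⟨ε, hε⟩ : ∃ ε, ε = α * (χ * α⁻¹ * χ⁻¹) := ⟨_, rfl⟩
    have mε : H.θ ε ∈ N := by rw [hε, map_mul]; exact mul_mem m1 m2
    have hε2 : ε * ε = 1 ∧ ε ≠ 1 := by
      have h := ε_check
      subst hε hαdef hχdef
      refine ⟨Subtype.ext (eq_of_sameVal h.1), fun e => ?_⟩
      have := congrArg Subtype.val e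
      rw [sameVal_iff.mpr (show aE * (xb * aE⁻¹ * xb⁻¹) = 1 from this)] at h
      exact absurd h.2 (by simp)
    refine hodd ?_
    have o2 : orderOf (⟨H.θ ε, mε⟩ : ↥N) = 2 := by
      rw [← Subgroup.orderOf_coe]
      refine orderOf_eq_prime (by rw [pow_two, ← map_mul, hε2.1, map_one]) fun e => hε2.2 (H.θ_inj ?_)
      rw [map_one]; exact e
    exact o2 ▸ orderOf_dvd_natCard _
  · intro E hN hE
    by_contra hc
    rw [not_and_or, not_not, not_not] at hc
    obtain ⟨hEc, hE2⟩ := hE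
    haveI := hEc
    haveI := hN
    have h1lt : 1 < Nat.card ↥E := by omega
    haveI : Nontrivial ↥E := Finite.one_lt_card_iff_nontrivial.mp h1lt
    obtain ⟨⟨a, ha⟩, hane⟩ := exists_ne (1 : ↥E)
    have hinvA : a⁻¹ = a := inv_eq_of_mul_eq_one_right (by rw [← pow_two]; exact hE2 a ha)
    obtain ⟨f, hfE, hf1, hfc⟩ : ∃ f ∈ E, f ≠ 1 ∧ Commute f H.xq := by
      have hxa : H.xq * a * H.xq⁻¹ ∈ E := hN.conj_mem a ha _
      by_cases h : a * (H.xq * a * H.xq⁻¹) = 1
      · refine ⟨a, ha, fun e => hane (Subtype.ext e), ?_⟩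
        rw [mul_eq_one_iff_eq_inv'] at h
        exact ((commute_iff_eq _ _).mpr (mul_inv_eq_iff_eq_mul.mp (h.trans hinvA))).symm
      · refine ⟨_, mul_mem ha hxa, h, ?_⟩
        have xi : H.xq⁻¹ = H.xq := inv_eq_of_mul_eq_one_right hxx
        have hab : a * (H.xq * a * H.xq⁻¹) = (H.xq * a * H.xq⁻¹) * a :=
          congrArg Subtype.val (mul_comm' (⟨a, ha⟩ : ↥E) ⟨_, hxa⟩)
        rw [xi] at hab ⊢
        refine ((commute_iff_eq _ _).mpr ?_).symm
        calc H.xq * (a * (H.xq * a * H.xq)) = (H.xq * a * H.xq) * a * H.xq := by simp only [mul_assoc]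
          _ = a * (H.xq * a * H.xq) * H.xq := by rw [hab]
    obtain ⟨v, hv, rfl⟩ := H.cent_xq f hfc
    have hconj : ∀ w : ↥A4g, H.θ (w * v * w⁻¹) ∈ E := fun w => by
      rw [map_mul, map_mul, map_inv]; exact hN.conj_mem _ hfE _
    have hVE : ∀ w : ↥A4g, (w : A8) ∈ vSet → H.θ w ∈ E := fun w hw => by
      have hv1 : sameVal (v : A8) 1 = false := by
        rw [Bool.eq_false_iff]
        intro h
        exact hf1 (by rw [show v = 1 from Subtype.ext (eq_of_sameVal h), map_one])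
      have h := List.all_eq_true.mp (List.all_eq_true.mp conj_check w hw) v hv
      rw [hv1, Bool.false_or, Bool.or_eq_true, Bool.or_eq_true, Bool.or_eq_true] at h
      rcases h with ((h | h) | h) | h
      · rw [show w = 1 from Subtype.ext (eq_of_sameVal h), map_one]; exact one_mem _
      · rw [show w = v from Subtype.ext (eq_of_sameVal h)]; exact hfE
      · rw [show w = α * v * α⁻¹ from Subtype.ext (by rw [hαdef]; exact eq_of_sameVal h)]; exact hconj _
      · rw [show w = α⁻¹ * v * α⁻¹⁻¹ from Subtype.ext (by rw [hαdef]; exact eq_of_sameVal h)]; exact hconj _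
    have hCE : centralizer ({H.xq} : Set (↥H.L ⧸ H.KL)) ≤ E := fun q hq => by
      obtain ⟨w, hw, rfl⟩ := H.cent_xq q (mem_centralizer_singleton_iff.mp hq)
      exact hVE w hw
    have hle := Subgroup.card_le_of_le hCE
    rw [hC4] at hle
    have hEq : centralizer ({H.xq} : Set (↥H.L ⧸ H.KL)) = E := Subgroup.eq_of_le_of_card_ge hCE (by omega)
    have horb := card_conj_orbit (⊤ : Subgroup (↥H.L ⧸ H.KL)) H.xq
      {q | ∃ x ∈ (⊤ : Subgroup (↥H.L ⧸ H.KL)), x * H.xq * x⁻¹ = q} (fun q => Iff.rfl)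
    have h3 : {q | ∃ x ∈ (⊤ : Subgroup (↥H.L ⧸ H.KL)), x * H.xq * x⁻¹ = q} ⊆ (E : Set (↥H.L ⧸ H.KL)) \ {1} := by
      rintro _ ⟨x, -, rfl⟩
      exact ⟨hN.conj_mem _ (hCE (mem_centralizer_singleton_iff.mpr rfl)) x, fun e => hx1 (conj_eq_one_iff.mp e)⟩
    have h3' := Set.ncard_le_ncard h3 (Set.toFinite _)
    rw [Set.ncard_diff_singleton_of_mem (one_mem E), ← Nat.card_coe_set_eq (E : Set (↥H.L ⧸ H.KL))] at h3'
    rw [top_inf_eq, hC4, Subgroup.card_top, Nat.card_coe_set_eq] at horb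
    have hE4 : Nat.card ↥E = 4 := by omega
    have h12 : Nat.card (↥H.L ⧸ H.KL) ≤ 12 := by
      rw [horb]
      change _ ≤ Nat.card ↥E - 1 at h3'
      omega
    obtain ⟨t, ht, hno⟩ := H.θ_not_top
    have htop : H.θ.range = ⊤ := Subgroup.eq_top_of_le_card _ (by rw [H.θ_card]; exact h12)
    obtain ⟨w, hw⟩ := MonoidHom.range_eq_top.mp htop (QuotientGroup.mk (⟨t, H.T_le ht⟩ : ↥H.L))
    exact hno w ⟨t, H.T_le ht⟩ rfl hw.symm

end Hyp

end Cfsg.Lib.ConwayType.Alt9
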