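import Cfsg.Agent.ConwayType.Locals.Alt9.Cover
import Cfsg.Agent.LocalThree.HallJankoType.Exclude

/-!
The element exchanging the last two pairs.
-/

set_option autoImplicit false
set_option maxRecDepth 100000
set_option maxHeartbeats 1000000
set_option linter.unusedSectionVars false
set_option linter.style.haveILetI false

namespace Cfsg.Lib.ConwayType.Alt9

open Subgroup Equiv

universe u

theorem xb_sign : Perm.sign (b5 : P5) = 1 ∧ sameVal (cw aE xb) cE = true := by decide +kernel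

theorem map_cw {A B : Type*} [Group A] [Group B] (f : A →* B) (a b : A) : f (cw a b) = cw (f a) (f b) := by
  simp only [cw, map_inv, map_mul]

theorem map_wv {A B : Type*} [Group A] [Group B] (f : A →* B) (c x : A) :
    ∀ w : List Bool, f (wv c x w) = wv (f c) (f x) w
  | [] => map_one f
  | s :: l => by
    rw [wv, wv, map_mul, map_wv f c x l]
    cases s <;> rfl

theorem wv_mem {A : Type*} [Group A] {S : Subgroup A} {c x : A} (hc : c ∈ S) (hx : x ∈ S) :
    ∀ w : List Bool, wv c x w ∈ S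
  | [] => one_mem S
  | s :: l => by
    rw [wv]
    refine mul_mem ?_ (wv_mem hc hx l)
    cases s
    · exact hc
    · exact hx

theorem inverting_sq {A : Type*} [Group A] {c k : A} (h : c * k * (c * k) * (c * k) = 1) (hk : k * k = 1) :
    c⁻¹ * k * (c⁻¹ * k) * (c⁻¹ * k) = 1 := by
  have ki : k⁻¹ = k := inv_eq_of_mul_eq_one_right hk
  have h' : (c * k * (c * k) * (c * k))⁻¹ = 1 := by rw [h, inv_one]
  simp only [mul_inv_rev, ki] at h'
  calc c⁻¹ * k * (c⁻¹ * k) * (c⁻¹ * k) = k⁻¹ * (k * c⁻¹ * (k * c⁻¹) * (k * c⁻¹)) * k := by group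
    _ = 1 := by rw [show k * c⁻¹ * (k * c⁻¹) * (k * c⁻¹) = 1 by simpa only [mul_assoc] using h']; group

namespace Hyp

variable {X : Type u} [Group X] [Finite X] (H : Hyp X)

/-- The elements of the four-group centralizer commuting with the three-cycle. -/
def F : Subgroup X := H.L ⊓ centralizer ({H.ι c0} : Set X)

theorem mem_F {y : X} : y ∈ H.F ↔ y ∈ H.L ∧ Commute y (H.ι c0) :=
  and_congr Iff.rfl mem_centralizer_singleton_iff

theorem T_F : H.T ≤ H.F := fun _ hy => H.mem_F.mpr ⟨H.T_le hy, (H.mem_T.mp hy).1⟩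

theorem a4_F {v : A8} (hv : v ∈ A4g) : H.ι v ∈ H.F := H.mem_F.mpr ⟨H.a4_mem_L hv, H.a4_comm hv⟩

theorem K_F {κ : A8} (hκ : κ ∈ K8) (h : H.ι κ ∈ H.F) : κ = 1 := by
  have hc := H.comm_of_map (H.mem_F.mp h).2
  have := List.all_eq_true.mp set_checks.2.2.2.2.2.2.1 κ hκ
  rw [commVal_of hc, Bool.not_true, Bool.or_false] at this
  exact eq_of_sameVal this

/-- The quotient map on the fixed elements. -/
noncomputable def q : ↥H.F →* ↥H.L ⧸ H.KL :=
  (QuotientGroup.mk' H.KL).comp (Subgroup.inclusion inf_le_left)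

theorem q_inj : Function.Injective H.q := (injective_iff_map_eq_one H.q).mpr fun y hy => by
  obtain ⟨κ, hκ, e⟩ := H.mem_KL.mp ((QuotientGroup.eq_one_iff _).mp hy)
  have e' : H.ι κ = (y : X) := e
  have := H.K_F hκ (e' ▸ y.2)
  rw [this, map_one] at e'
  exact Subtype.ext e'.symm

theorem q_range_big : Nat.card ↥H.q.range = 60 := by
  obtain ⟨ε⟩ := H.quot_five
  have h60 : Nat.card (↥H.L ⧸ H.KL) = 60 := by
    rw [Nat.card_congr ε.toEquiv]; exact Cfsg.Lib.HallJankoType.sixty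
  have hle : H.θ.range ≤ H.q.range := by
    rintro _ ⟨v, rfl⟩
    exact ⟨⟨H.ι v, H.a4_F v.2⟩, rfl⟩
  have h12 := Subgroup.card_dvd_of_le hle
  rw [H.θ_card] at h12
  obtain ⟨t, ht, hno⟩ := H.θ_not_top
  have hne : H.θ.range ≠ H.q.range := fun e => by
    obtain ⟨v, hv⟩ : H.q ⟨t, H.T_F ht⟩ ∈ H.θ.range := e ▸ ⟨_, rfl⟩
    exact hno v ⟨t, H.T_le ht⟩ rfl hv.symm
  have hgt : 12 < Nat.card ↥H.q.range := by
    by_contra hc
    exact hne (Subgroup.eq_of_le_of_card_ge hle (by rw [H.θ_card]; omega))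
  have hd := H.q.range.card_subgroup_dvd_card
  rw [h60] at hd
  have hle60 := Nat.le_of_dvd (by norm_num) hd
  revert h12 hgt hd hle60
  generalize hn : Nat.card ↥H.q.range = n
  intro h12 hgt hd hle60
  by_contra hne60
  -- the orders 24, 36, 48 do not divide 60
  obtain ⟨j, rfl⟩ := h12
  have : j ≤ 5 := by omega
  interval_cases j <;> omega

theorem q_surj : Function.Surjective H.q := by
  obtain ⟨ε⟩ := H.quot_five
  rw [← MonoidHom.range_eq_top]
  refine Subgroup.eq_top_of_card_eq _ ?_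
  rw [H.q_range_big, Nat.card_congr ε.toEquiv]
  exact Cfsg.Lib.HallJankoType.sixty.symm

/-- A faithful action on five points with standard values. -/
theorem exists_psi : ∃ ψ : ↥H.F →* P5, Function.Injective ψ ∧ (∀ y, Perm.sign (ψ y) = 1) ∧
    ψ ⟨H.ι aE, H.a4_F aE_mem.1⟩ = a5 ∧ ψ ⟨H.ι xb, H.a4_F xb_mem⟩ = b5 := by
  obtain ⟨ε⟩ := H.quot_five
  let φ : ↥H.F →* P5 := ((alternatingGroup (Fin 5)).subtype.comp ε.toMonoidHom).comp H.q
  have hφ : Function.Injective φ := (Subtype.val_injective.comp ε.injective).comp H.q_inj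
  have hs : ∀ y, Perm.sign (φ y) = 1 := fun y => Perm.mem_alternatingGroup.mp (ε (H.q y)).2
  obtain ⟨a, ha⟩ : ∃ a, a = φ ⟨H.ι aE, H.a4_F aE_mem.1⟩ := ⟨_, rfl⟩
  obtain ⟨b, hb⟩ : ∃ b, b = φ ⟨H.ι xb, H.a4_F xb_mem⟩ := ⟨_, rfl⟩
  obtain ⟨-, -, -, -, -, -, -, -, -, -, -, -, -, -, -, hxx, hx1, ha3, ha1, hab, -⟩ := elt_facts
  have hne : ∀ {v : A8} (hv : v ∈ A4g), sameVal v 1 = false → φ ⟨H.ι v, H.a4_F hv⟩ ≠ 1 := fun {v} hv h e => by
    have := congrArg Subtype.val (hφ (e.trans (map_one φ).symm))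
    rw [show v = 1 from H.inj (this.trans (map_one H.ι).symm), sameVal_iff.mpr rfl] at h
    exact absurd h (by simp)
  have e1 : ∀ {v : A8} (hv : v ∈ A4g), v = 1 → φ ⟨H.ι v, H.a4_F hv⟩ = 1 := fun {v} hv h => by
    rw [show (⟨H.ι v, H.a4_F hv⟩ : ↥H.F) = 1 from Subtype.ext ((congrArg H.ι h).trans (map_one H.ι)), map_one]
  obtain ⟨σ, hσa, hσb⟩ := normal_pair a
    (by
      rw [ha, ← map_mul, ← map_mul, ← e1 (mul_mem (mul_mem aE_mem.1 aE_mem.1) aE_mem.1) (eq_of_sameVal ha3)]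
      exact congrArg φ (Subtype.ext (by simp [map_mul])))
    (ha ▸ hne aE_mem.1 ha1) b
    (by
      rw [hb, ← map_mul, ← e1 (mul_mem xb_mem xb_mem) (eq_of_sameVal hxx)]
      exact congrArg φ (Subtype.ext (by simp [map_mul])))
    (hb ▸ hne xb_mem hx1) (hb ▸ hs _)
    (by
      rw [ha, hb, ← map_mul, ← map_mul, ← map_mul,
        ← e1 (mul_mem (mul_mem (mul_mem aE_mem.1 xb_mem) (mul_mem aE_mem.1 xb_mem)) (mul_mem aE_mem.1 xb_mem))
          (eq_of_sameVal hab)]
      exact congrArg φ (Subtype.ext (by simp [map_mul, mul_assoc])))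
  refine ⟨(MulAut.conj σ).toMonoidHom.comp φ, (MulAut.conj σ).injective.comp hφ, fun y => ?_, ?_, ?_⟩
  · show Perm.sign (σ * φ y * σ⁻¹) = 1
    rw [map_mul, map_mul, hs, map_inv, mul_one, mul_inv_cancel]
  · show σ * φ _ * σ⁻¹ = a5
    rw [← ha, hσa, mul_inv_cancel_right]
  · show σ * φ _ * σ⁻¹ = b5
    rw [← hb, hσb, mul_inv_cancel_right]

/-- The element inverting one three-cycle and centralizing the five points. -/
theorem exists_k : ∃ k : X, k ∈ H.T ∧ k * k = 1 ∧ k * H.ι aE * k = (H.ι aE)⁻¹ ∧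
    H.ι cE * k * (H.ι cE * k) * (H.ι cE * k) = 1 ∧ H.ι dE * k = k * H.ι dE ∧
    (∀ y ∈ H.L, y ∈ closure (insert k (Set.range H.ι))) := by
  classical
  obtain ⟨ψ, hψ, hs, ψa, ψb⟩ := H.exists_psi
  obtain ⟨-, -, -, -, -, -, hdd, hda, hdc, hd0, hd1, hd34, -, -, haT, -, -, -, -, -, -, -, hc0, hc1, hc34, -⟩ := elt_facts
  obtain ⟨α, hα⟩ : ∃ α : ↥H.F, α = ⟨H.ι aE, H.a4_F aE_mem.1⟩ := ⟨_, rfl⟩
  obtain ⟨β, hβ⟩ : ∃ β : ↥H.F, β = ⟨H.ι xb, H.a4_F xb_mem⟩ := ⟨_, rfl⟩
  obtain ⟨γ, hγ⟩ : ∃ γ : ↥H.F, γ = ⟨H.ι cE, H.a4_F aE_mem.2⟩ := ⟨_, rfl⟩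
  rw [← hα] at ψa
  rw [← hβ] at ψb
  have ψc : ψ γ = cw a5 b5 := by
    rw [← ψa, ← ψb, ← map_cw]
    congr 1
    apply Subtype.ext
    show (γ : X) = H.F.subtype (cw α β)
    rw [map_cw, hγ, hα, hβ]
    show H.ι cE = cw (H.ι aE) (H.ι xb)
    rw [← map_cw, eq_of_sameVal xb_sign.2]
  have hcT : H.ι cE ∈ H.T := H.mem_T.mpr ⟨H.map_comm hc0, H.map_comm hc1, H.map_comm hc34⟩
  have haN : H.ι aE ∉ H.T := fun h => by
    have := commVal_of (H.comm_of_map (H.mem_T.mp h).2.2)
    rw [haT] at this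
    exact absurd this (by simp)
  -- an element of the centralizer outside the normalizer of the three-cycle
  obtain ⟨x, hx, hxN⟩ : ∃ x : ↥H.F, (x : X) ∈ H.T ∧ ¬ (ψ x * cw a5 b5 = cw a5 b5 * ψ x ∨ ψ x * cw a5 b5 = (cw a5 b5)⁻¹ * ψ x) := by
    by_contra hc
    push_neg at hc
    have hinj : Function.Injective fun t : ↥H.T => ψ ⟨t, H.T_F t.2⟩ := fun a b e =>
      Subtype.ext (Subtype.ext_iff.mp (hψ e) :)
    have hsub : ∀ t : ↥H.T, ψ ⟨t, H.T_F t.2⟩ ∈ (Finset.univ.filter fun x : P5 => Perm.sign x = 1 ∧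
        (x * cw a5 b5 = cw a5 b5 * x ∨ x * cw a5 b5 = (cw a5 b5)⁻¹ * x)) := fun t =>
      Finset.mem_filter.mpr ⟨Finset.mem_univ _, hs _, hc ⟨t, H.T_F t.2⟩ t.2⟩
    have h1 := Nat.card_le_card_of_injective (fun t : ↥H.T => (⟨_, hsub t⟩ : {x // x ∈ _}))
      fun a b e => hinj (congrArg Subtype.val e)
    rw [Nat.card_eq_finsetCard] at h1
    have := H.big
    have h6 := six_only
    change 12 ≤ Nat.card ↥H.T at this
    omega
  obtain ⟨w, -, hw⟩ := (word_reach (ψ x) (hs x)).resolve_left hxN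
  obtain ⟨κ, hκ⟩ : ∃ κ : ↥H.F, κ = wv γ x w := ⟨_, rfl⟩
  have hκT : (κ : X) ∈ H.T := by
    rw [hκ, show ((wv γ x w : ↥H.F) : X) = H.F.subtype (wv γ x w) from rfl, map_wv]
    exact wv_mem (by rw [hγ]; exact hcT) hx w
  have hκ5 : ψ κ = k5 := by
    rw [hκ, map_wv, ψc]
    refine hw.resolve_left fun e => haN ?_
    rw [← ψc, ← map_wv, ← hκ, ← ψa] at e
    rw [hψ e, hα] at hκT
    exact hκT
  obtain ⟨-, k2', -, kinv, kc⟩ := k5_facts
  have hk2 : (κ : X) * κ = 1 := congrArg Subtype.val (hψ (by rw [map_mul, hκ5, k2', map_one]) : κ * κ = 1)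
  have hka : (κ : X) * H.ι aE * κ = (H.ι aE)⁻¹ := by
    have := congrArg Subtype.val (hψ (by rw [map_mul, map_mul, hκ5, ψa, kinv, ← ψa, map_inv]) : κ * α * κ = α⁻¹)
    rw [hα] at this
    exact this
  have hkc : H.ι cE * κ * (H.ι cE * κ) * (H.ι cE * κ) = 1 := by
    have := congrArg Subtype.val
      (hψ (by rw [map_mul, map_mul, map_mul, hκ5, ψc, kc, map_one]) : γ * κ * (γ * κ) * (γ * κ) = 1)
    rw [hγ] at this
    exact this
  -- the conjugate by the outer pair is the same element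
  obtain ⟨d, hd⟩ : ∃ d, d = H.ι dE := ⟨_, rfl⟩
  have hd2 : d * d = 1 := by rw [hd, ← map_mul, eq_of_sameVal hdd, map_one]
  have di : d⁻¹ = d := inv_eq_of_mul_eq_one_right hd2
  have dconj : ∀ {π σ : A8}, sameVal (dE * π * dE) σ = true → d * H.ι π * d = H.ι σ := fun {π σ} h => by
    rw [hd, ← map_mul, ← map_mul, eq_of_sameVal h]
  have cj : ∀ {a b : X}, Commute (κ : X) a → d * a * d = b → Commute (d * κ * d) b := fun {a b} h e => by
    have := (Commute.conj_iff d).mpr h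
    rwa [di, e] at this
  obtain ⟨t0, t1, t34⟩ := H.mem_T.mp hκT
  have hκdT : d * κ * d ∈ H.T := H.mem_T.mpr ⟨by
    have := cj t0.inv_right (b := H.ι c0) (by
      have e := dconj hd0
      rw [map_inv] at e
      rw [← inv_inj, mul_inv_rev, mul_inv_rev, di, inv_inv, ← mul_assoc, e])
    exact this, cj t1 (dconj hd1), cj t34 (dconj hd34)⟩
  obtain ⟨κ', hκ'⟩ : ∃ κ' : ↥H.F, κ' = ⟨d * κ * d, H.T_F hκdT⟩ := ⟨_, rfl⟩
  have hfix : ψ κ' = k5 := by
    have e2 : d * κ * d * (d * κ * d) = 1 := by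
      calc d * κ * d * (d * κ * d) = d * κ * (d * d) * κ * d := by group
        _ = d * (κ * κ) * d := by rw [hd2]; group
        _ = 1 := by rw [hk2, mul_one, hd2]
    refine unique_k _ (hs _) ?_ ?_ ?_ ?_
    · rw [← map_mul, show κ' * κ' = 1 from Subtype.ext (by rw [hκ']; exact e2), map_one]
    · intro e
      have h := congrArg Subtype.val (hψ (e.trans (map_one ψ).symm))
      rw [hκ'] at h
      have : (κ : X) = 1 := by
        calc (κ : X) = d * (d * κ * d) * d := by rw [← mul_assoc, ← mul_assoc, hd2, one_mul, mul_assoc, hd2, mul_one]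
          _ = 1 := by rw [show d * κ * d = 1 from h, mul_one, hd2]
      exact k5_facts.2.2.1 (by rw [← hκ5, show κ = 1 from Subtype.ext this, map_one])
    · rw [← ψa, ← map_mul, ← map_mul, ← map_inv]
      congr 1
      apply Subtype.ext
      rw [hκ', hα]
      show d * κ * d * H.ι aE * (d * κ * d) = (H.ι aE)⁻¹
      have e := dconj hda
      rw [map_inv] at e
      calc d * κ * d * H.ι aE * (d * κ * d) = d * (κ * (d * H.ι aE * d) * κ) * d := by group
        _ = d * (κ * (H.ι aE)⁻¹ * κ) * d := by rw [e]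
        _ = d * H.ι aE * d := by
          congr 2
          rw [← inv_inj, mul_inv_rev, mul_inv_rev, inv_inv, inv_eq_of_mul_eq_one_right hk2, ← mul_assoc, hka]
        _ = (H.ι aE)⁻¹ := e
    · rw [← ψc, ← map_mul, ← map_mul, ← map_mul, ← map_one ψ]
      congr 1
      apply Subtype.ext
      rw [hκ', hγ]
      show H.ι cE * (d * κ * d) * (H.ι cE * (d * κ * d)) * (H.ι cE * (d * κ * d)) = 1
      have e := dconj hdc
      rw [map_inv] at e
      calc H.ι cE * (d * κ * d) * (H.ι cE * (d * κ * d)) * (H.ι cE * (d * κ * d))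
          = (d * d) * H.ι cE * d * κ * (d * H.ι cE * d) * κ * (d * H.ι cE * d) * κ * d := by rw [hd2]; group
        _ = d * ((d * H.ι cE * d) * κ * ((d * H.ι cE * d) * κ) * ((d * H.ι cE * d) * κ)) * d := by group
        _ = 1 := by rw [e, inverting_sq hkc hk2, mul_one, hd2]
  have hdk : d * κ = κ * d := by
    have h := congrArg Subtype.val (hψ (hfix.trans hκ5.symm))
    rw [hκ'] at h
    have h' : d * κ * d * d = κ * d := congrArg (· * d) h
    rwa [mul_assoc (d * κ), hd2, mul_one] at h'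
  refine ⟨κ, hκT, hk2, hka, hkc, hd ▸ hdk, fun y hy => ?_⟩
  -- the centralizer is generated by the known elements
  obtain ⟨f, hf⟩ := H.q_surj (QuotientGroup.mk (⟨y, hy⟩ : ↥H.L))
  obtain ⟨μ, hμ, e⟩ := H.mem_KL.mp (QuotientGroup.eq.mp hf)
  have hy' : y = (f : X) * H.ι μ := by rw [e]; show y = (f : X) * ((f : X)⁻¹ * y); rw [mul_inv_cancel_left]
  rw [hy']
  refine mul_mem ?_ (subset_closure (Set.mem_insert_of_mem _ ⟨μ, rfl⟩))
  have hgen : (f : X) ∈ (closure ({α, β, κ} : Set ↥H.F)).map H.F.subtype := by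
    refine ⟨f, ?_, rfl⟩
    have hsub : (closure ({α, β, κ} : Set ↥H.F)).map ψ = ψ.range := by
      refine Subgroup.eq_of_le_of_card_ge (Subgroup.map_le_range _ _) ?_
      have hr : Nat.card ↥ψ.range = 60 := by
        rw [← Nat.card_congr (MonoidHom.ofInjective hψ).toEquiv, Nat.card_congr (MonoidHom.ofInjective H.q_inj).toEquiv,
          H.q_range_big]
      rw [hr]
      have : closure ({a5, b5, k5} : Set P5) ≤ (closure ({α, β, κ} : Set ↥H.F)).map ψ := by
        rw [closure_le, MonoidHom.map_closure]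
        intro t ht
        simp only [Set.mem_insert_iff, Set.mem_singleton_iff] at ht
        rcases ht with rfl | rfl | rfl
        · exact subset_closure ⟨α, by simp, ψa⟩
        · exact subset_closure ⟨β, by simp, ψb⟩
        · exact subset_closure ⟨κ, by simp, hκ5⟩
      refine le_trans ?_ (Subgroup.card_le_of_le this)
      have h5 : (60 : ℕ) ∣ Nat.card ↥(closure ({a5, b5, k5} : Set P5)) := by
        have d3 : orderOf a5 = 3 := orderOf_eq_prime (by decide +kernel) (by decide +kernel)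
        have d4 : orderOf (b5 * k5) = 5 :=
          haveI : Fact (Nat.Prime 5) := ⟨by norm_num⟩
          orderOf_eq_prime (by decide +kernel) (by decide +kernel)
        have m3 : 3 ∣ Nat.card ↥(closure ({a5, b5, k5} : Set P5)) := by
          exact (dvd_of_eq d3.symm).trans (Subgroup.orderOf_dvd_natCard _ (subset_closure (by simp)))
        have m5 : 5 ∣ Nat.card ↥(closure ({a5, b5, k5} : Set P5)) := by
          exact (dvd_of_eq d4.symm).trans
            (Subgroup.orderOf_dvd_natCard _ (mul_mem (subset_closure (by simp)) (subset_closure (by simp))))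
        have m4 : 4 ∣ Nat.card ↥(closure ({a5, b5, k5} : Set P5)) := by
          let P : Subgroup P5 :=
            { carrier := {x | x ∈ [1, b5, a5 * b5 * a5⁻¹, a5⁻¹ * b5 * a5]}
              one_mem' := by simp
              mul_mem' := fun {a b} ha hb => (by decide +kernel :
                ∀ a ∈ [1, b5, a5 * b5 * a5⁻¹, a5⁻¹ * b5 * a5], ∀ b ∈ [1, b5, a5 * b5 * a5⁻¹, a5⁻¹ * b5 * a5],
                  a * b ∈ [1, b5, a5 * b5 * a5⁻¹, a5⁻¹ * b5 * a5]) a ha b hb
              inv_mem' := fun {a} ha => (by decide +kernel :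
                ∀ a ∈ [1, b5, a5 * b5 * a5⁻¹, a5⁻¹ * b5 * a5], a⁻¹ ∈ [1, b5, a5 * b5 * a5⁻¹, a5⁻¹ * b5 * a5]) a ha }
          have hc : Nat.card ↥P = 4 := by
            have e : Nat.card ↥P = Nat.card {x : P5 // x ∈ [1, b5, a5 * b5 * a5⁻¹, a5⁻¹ * b5 * a5]} := rfl
            rw [e, Nat.card_congr (Equiv.subtypeEquivRight fun x => List.mem_toFinset.symm), Nat.card_eq_fintype_card,
              Fintype.card_coe]
            decide +kernel
          have hA : a5 ∈ closure ({a5, b5, k5} : Set P5) := subset_closure (by simp)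
          have hB : b5 ∈ closure ({a5, b5, k5} : Set P5) := subset_closure (by simp)
          refine hc ▸ Subgroup.card_dvd_of_le fun x hx => ?_
          have hx' : x ∈ [1, b5, a5 * b5 * a5⁻¹, a5⁻¹ * b5 * a5] := hx
          simp only [List.mem_cons, List.not_mem_nil, or_false] at hx'
          rcases hx' with rfl | rfl | rfl | rfl
          · exact one_mem _
          · exact hB
          · exact mul_mem (mul_mem hA hB) (inv_mem hA)
          · exact mul_mem (mul_mem (inv_mem hA) hB) hA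
        exact (Nat.Coprime.mul_dvd_of_dvd_of_dvd (by norm_num : Nat.Coprime 12 5)
          (Nat.Coprime.mul_dvd_of_dvd_of_dvd (by norm_num : Nat.Coprime 3 4) m3 m4) m5)
      exact Nat.le_of_dvd Nat.card_pos h5
    obtain ⟨f', hf', ef⟩ : ψ f ∈ (closure ({α, β, κ} : Set ↥H.F)).map ψ := hsub ▸ ⟨f, rfl⟩
    exact hψ ef ▸ hf'
  have hle : (closure ({α, β, κ} : Set ↥H.F)).map H.F.subtype ≤ closure (insert (κ : X) (Set.range H.ι)) := by
    rw [MonoidHom.map_closure, closure_le]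
    rintro _ ⟨t, ht, rfl⟩
    simp only [Set.mem_insert_iff, Set.mem_singleton_iff] at ht
    rcases ht with rfl | rfl | rfl
    · exact subset_closure (Set.mem_insert_of_mem _ ⟨aE, by rw [hα]; rfl⟩)
    · exact subset_closure (Set.mem_insert_of_mem _ ⟨xb, by rw [hβ]; rfl⟩)
    · exact subset_closure (Set.mem_insert _ _)
  exact hle hgen

end Hyp

end Cfsg.Lib.ConwayType.Alt9
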