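import Cfsg.Agent.ConwayType.Locals.Alt9.Extend
import Cfsg.Agent.ConwayType.Locals.CentT
import Cfsg.Agent.LocalThree.AltEightLocal.Build
import Mathlib.GroupTheory.SpecificGroups.Alternating.Simple

/-!
Recognition of the alternating group of degree nine from a copy of degree eight.
-/

set_option autoImplicit false
set_option synthInstance.maxSize 4096
set_option maxRecDepth 100000
set_option maxHeartbeats 1000000
set_option linter.unusedSectionVars false
set_option linter.style.haveILetI false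

namespace Cfsg.Lib.ConwayType.Alt9

open Equiv Subgroup

universe u

/-- The alternating group of degree nine. -/
abbrev A9 := alternatingGroup (Fin 9)

/-- An even permutation of nine points. -/
def el9 (σ : Perm (Fin 9)) (h : Perm.sign σ = 1 := by decide +kernel) : A9 := ⟨σ, Perm.mem_alternatingGroup.2 h⟩

/-- The generators of Moore. -/
def gens9 : Fin 7 → A9 :=
  ![el9 (swap 0 1 * swap 1 2), el9 (swap 0 1 * swap 2 3), el9 (swap 0 1 * swap 3 4), el9 (swap 0 1 * swap 4 5),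
    el9 (swap 0 1 * swap 5 6), el9 (swap 0 1 * swap 6 7), el9 (swap 0 1 * swap 7 8)]

/-- The relations. -/
def rels9 : Set (FreeGroup (Fin (9 - 2))) :=
  {g : FreeGroup (Fin (9 - 2)) | ∃ i : Fin (9 - 2), i.val = 0 ∧ g = FreeGroup.of i ^ 3} ∪
  {g | ∃ i : Fin (9 - 2), 1 ≤ i.val ∧ g = FreeGroup.of i ^ 2} ∪
  {g | ∃ i j : Fin (9 - 2), j.val = i.val + 1 ∧ g = (FreeGroup.of i * FreeGroup.of j) ^ 3} ∪
  {g | ∃ i j : Fin (9 - 2), i.val + 1 < j.val ∧ g = (FreeGroup.of i * FreeGroup.of j) ^ 2}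

theorem rels9_of {K : Type*} [Group K] (x : Fin 7 → K) (h1 : x 0 ^ 3 = 1) (h2 : ∀ i : Fin 7, 1 ≤ i.val → x i ^ 2 = 1)
    (h3 : ∀ i j : Fin 7, j.val = i.val + 1 → (x i * x j) ^ 3 = 1)
    (h4 : ∀ i j : Fin 7, i.val + 1 < j.val → (x i * x j) ^ 2 = 1) :
    ∀ r ∈ rels9, FreeGroup.lift x r = 1 := by
  rintro r (((⟨i, hi, rfl⟩ | ⟨i, hi, rfl⟩) | ⟨i, j, hj, rfl⟩) | ⟨i, j, hj, rfl⟩) <;>
    simp only [map_pow, map_mul, FreeGroup.lift_apply_of]
  · rw [show i = (0 : Fin 7) from Fin.ext hi]; exact h1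
  · exact h2 i hi
  · exact h3 i j hj
  · exact h4 i j hj

theorem gens9_rels : ∀ r ∈ rels9, FreeGroup.lift gens9 r = 1 :=
  rels9_of gens9 (by decide +kernel) (by decide +kernel) (by decide +kernel) (by decide +kernel)

theorem gens9_iso : ∃ e : PresentedGroup rels9 ≃* A9, ∀ i, e (PresentedGroup.of i) = gens9 i := by
  obtain ⟨e0⟩ : Nonempty (PresentedGroup rels9 ≃* A9) := Cfsg.Lib.Presentations.Carmichael.presentation 9 (by norm_num)
  set φ := PresentedGroup.toGroup gens9_rels with hφ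
  haveI : IsSimpleGroup A9 := alternatingGroup.isSimpleGroup (by simp)
  haveI : IsSimpleGroup (PresentedGroup rels9) := e0.isSimpleGroup
  have hinj : Function.Injective φ := by
    rw [← MonoidHom.ker_eq_bot_iff]
    refine φ.normal_ker.eq_bot_or_eq_top.resolve_right fun h => ?_
    have h0 : φ (PresentedGroup.of 0) = 1 := h.ge (mem_top _)
    rw [hφ, PresentedGroup.toGroup.of] at h0
    exact absurd h0 (by decide +kernel)
  haveI : Finite (PresentedGroup rels9) := Finite.of_equiv _ e0.symm.toEquiv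
  exact ⟨MulEquiv.ofBijective φ ((Nat.bijective_iff_injective_and_card φ).2 ⟨hinj, Nat.card_congr e0.toEquiv⟩),
    fun i => by rw [MulEquiv.ofBijective_apply, hφ, PresentedGroup.toGroup.of]⟩

theorem gens_closure : closure (Set.range AltEightLocal.gens) = (⊤ : Subgroup A8) := by
  obtain ⟨e, he⟩ := AltEightLocal.gens_iso
  have h := congrArg (Subgroup.map e.toMonoidHom) (PresentedGroup.closure_range_of AltEightLocal.rels)
  rw [MonoidHom.map_closure, ← Set.range_comp, Subgroup.map_top_of_surjective _ e.surjective] at h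
  rw [← h]
  congr 1
  exact congrArg Set.range (funext fun i => (he i).symm)

/-- The embedding fixing the last point. -/
noncomputable def emb : A8 →* A9 where
  toFun π := ⟨Equiv.Perm.viaEmbeddingHom Fin.castSuccEmb (π : Perm (Fin 8)), by
    classical
    rw [Perm.mem_alternatingGroup, Equiv.Perm.viaEmbeddingHom_apply, Equiv.Perm.viaEmbedding,
      Equiv.Perm.sign_extendDomain]
    exact Perm.mem_alternatingGroup.mp π.2⟩
  map_one' := Subtype.ext (map_one _)
  map_mul' a b := Subtype.ext (map_mul _ (a : Perm (Fin 8)) b)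

theorem emb_castSucc (π : A8) (i : Fin 8) :
    ((emb π : A9) : Perm (Fin 9)) i.castSucc = ((π : Perm (Fin 8)) i).castSucc :=
  Equiv.Perm.viaEmbedding_apply _ Fin.castSuccEmb i

theorem emb_last (π : A8) : ((emb π : A9) : Perm (Fin 9)) (Fin.last 8) = Fin.last 8 :=
  Equiv.Perm.viaEmbedding_apply_of_notMem _ Fin.castSuccEmb _ (by
    rintro ⟨i, hi⟩; exact (Fin.castSucc_lt_last i).ne hi)

theorem emb_eq {π : A8} {σ : A9} (h : ∀ i : Fin 8, (σ : Perm (Fin 9)) i.castSucc = ((π : Perm (Fin 8)) i).castSucc)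
    (hl : (σ : Perm (Fin 9)) (Fin.last 8) = Fin.last 8) : emb π = σ :=
  Subtype.ext (Equiv.ext fun j => by
    induction j using Fin.lastCases with
    | last => rw [emb_last, hl]
    | cast i => rw [emb_castSucc, h])

theorem emb_inj : Function.Injective emb := fun a b e =>
  Subtype.ext (Equiv.ext fun i => Fin.castSucc_injective _ (by rw [← emb_castSucc, ← emb_castSucc, e]))

/-- An involution with two cycles. -/
def iN : A9 := el9 (swap 0 1 * swap 2 3)

/-- An involution with four cycles. -/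
def eN : A9 := el9 (swap 0 1 * swap 2 3 * swap 4 5 * swap 6 7)

theorem type_facts : (iN : Perm (Fin 9)).support.card = 4 ∧ (eN : Perm (Fin 9)).support.card = 8 ∧
    (iN : Perm (Fin 9)) * (iN : Perm (Fin 9)) = 1 ∧ (eN : Perm (Fin 9)) * (eN : Perm (Fin 9)) = 1 ∧
    Perm.sign (swap (4 : Fin 9) 5) = -1 ∧ Perm.sign (swap (0 : Fin 9) 1) = -1 ∧
    (iN : Perm (Fin 9)) * swap (4 : Fin 9) 5 = swap (4 : Fin 9) 5 * iN ∧
    (eN : Perm (Fin 9)) * swap (0 : Fin 9) 1 = swap (0 : Fin 9) 1 * eN := by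
  decide +kernel

theorem conj_of_support {π ρ : A9} {τ : Perm (Fin 9)} (hπ : π * π = 1) (hρ : (ρ : Perm (Fin 9)) * ρ = 1)
    (hc : (π : Perm (Fin 9)).support.card = (ρ : Perm (Fin 9)).support.card)
    (hτ : Perm.sign τ = -1) (hcomm : (ρ : Perm (Fin 9)) * τ = τ * ρ) : IsConj ρ π := by
  have cyc : ∀ g : Perm (Fin 9), g * g = 1 → g.cycleType = Multiset.replicate g.cycleType.card 2 := fun g hg =>
    Multiset.eq_replicate_card.mpr fun n hn => by
      have h1 := (Perm.dvd_of_mem_cycleType hn).trans (orderOf_dvd_of_pow_eq_one (x := g) (n := 2) (by rw [pow_two, hg]))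
      have h2 := Perm.two_le_of_mem_cycleType hn
      have := Nat.le_of_dvd two_pos h1
      omega
  have hπ' : (π : Perm (Fin 9)) * π = 1 := congrArg Subtype.val hπ
  have hct : (ρ : Perm (Fin 9)).cycleType = (π : Perm (Fin 9)).cycleType := by
    have e1 := cyc _ hρ
    have e2 := cyc _ hπ'
    have s1 := Perm.sum_cycleType (ρ : Perm (Fin 9))
    have s2 := Perm.sum_cycleType (π : Perm (Fin 9))
    rw [e1, Multiset.sum_replicate, smul_eq_mul] at s1
    rw [e2, Multiset.sum_replicate, smul_eq_mul] at s2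
    rw [e1, e2]
    congr 1
    omega
  obtain ⟨σ, hσ⟩ := isConj_iff.mp (Perm.isConj_of_cycleType_eq hct)
  rcases Int.units_eq_one_or (Perm.sign σ) with h | h
  · exact isConj_iff.mpr ⟨⟨σ, Perm.mem_alternatingGroup.mpr h⟩, Subtype.ext hσ⟩
  · refine isConj_iff.mpr ⟨⟨σ * τ, Perm.mem_alternatingGroup.mpr (by rw [map_mul, h, hτ]; rfl)⟩, Subtype.ext ?_⟩
    show σ * τ * (ρ : Perm (Fin 9)) * (σ * τ)⁻¹ = π
    rw [mul_inv_rev, mul_assoc σ τ, ← hcomm, ← hσ]
    group

theorem conj_eN {π : A9} (hπ : π * π = 1) (hc : (π : Perm (Fin 9)).support.card = 8) : IsConj eN π :=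
  conj_of_support hπ type_facts.2.2.2.1 (hc.trans type_facts.2.1.symm) type_facts.2.2.2.2.2.1 type_facts.2.2.2.2.2.2.2

theorem conj_iN {π : A9} (hπ : π * π = 1) (hc : (π : Perm (Fin 9)).support.card = 4) : IsConj iN π :=
  conj_of_support hπ type_facts.2.2.1 (hc.trans type_facts.1.symm) type_facts.2.2.2.2.1 type_facts.2.2.2.2.2.2.1

theorem invol_class {π : A9} (hπ : π * π = 1) (h1 : π ≠ 1) : IsConj iN π ∨ IsConj eN π := by
  have hg : (π : Perm (Fin 9)) * π = 1 := congrArg Subtype.val hπ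
  have hrep : (π : Perm (Fin 9)).cycleType = Multiset.replicate (π : Perm (Fin 9)).cycleType.card 2 :=
    Multiset.eq_replicate_card.mpr fun n hn => by
      have h1 := (Perm.dvd_of_mem_cycleType hn).trans
        (orderOf_dvd_of_pow_eq_one (x := (π : Perm (Fin 9))) (n := 2) (by rw [pow_two, hg]))
      have h2 := Perm.two_le_of_mem_cycleType hn
      have := Nat.le_of_dvd two_pos h1
      omega
  obtain ⟨k, hk⟩ : ∃ k, k = (π : Perm (Fin 9)).cycleType.card := ⟨_, rfl⟩
  rw [← hk] at hrep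
  have hsum := Perm.sum_cycleType (π : Perm (Fin 9))
  rw [hrep, Multiset.sum_replicate, smul_eq_mul] at hsum
  have hle : (π : Perm (Fin 9)).support.card ≤ 9 := (Finset.card_le_univ _).trans (by simp)
  have hs := Perm.sign_of_cycleType (π : Perm (Fin 9))
  rw [hrep, Multiset.sum_replicate, Multiset.card_replicate, smul_eq_mul, Perm.mem_alternatingGroup.mp π.2] at hs
  have hk0 : k ≠ 0 := fun e => h1 (Subtype.ext (Perm.cycleType_eq_zero.mp (by rw [hrep, e]; rfl)))
  have hk4 : k ≤ 4 := by omega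
  interval_cases k
  · exact absurd rfl hk0
  · exact absurd hs (by decide)
  · exact Or.inl (conj_iN hπ (by omega))
  · exact absurd hs (by decide)
  · exact Or.inr (conj_eN hπ (by omega))

/-- Values of the involutions centralizing both halves. -/
theorem half_values : ∀ a b : Fin 4, ∀ c d : Fin 4,
    let a' : Fin 8 := ⟨a, by omega⟩
    let b' : Fin 8 := ⟨b, by omega⟩
    let c' : Fin 8 := ⟨c + 4, by omega⟩
    let d' : Fin 8 := ⟨d + 4, by omega⟩
    let f : Fin 8 → Fin 8 := ![a', (k1 : Perm (Fin 8)) a', b', (k1 : Perm (Fin 8)) b', c', (xb : Perm (Fin 8)) c', d',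
      (xb : Perm (Fin 8)) d']
    (∀ i, f (f i) = i) →
    ((List.finRange 8).filter fun i => f i != i).length = 4 →
    ((List.finRange 8).filter fun i => (k1 : Perm (Fin 8)) (f i) != i).length = 4 →
    ((List.finRange 8).filter fun i => f ((e0 : Perm (Fin 8)) i) != i).length = 8 →
      (∀ i, f i = (k2 : Perm (Fin 8)) i) ∨ ∀ i, f i = ((k1 * k2 : A8) : Perm (Fin 8)) i := by
  decide +kernel

theorem emb_moved (π : A8) : ((emb π : A9) : Perm (Fin 9)).support.card =
    ((List.finRange 8).filter fun i => (π : Perm (Fin 8)) i != i).length := by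
  classical
  have h : ((emb π : A9) : Perm (Fin 9)).support =
      ((List.finRange 8).filter fun i => (π : Perm (Fin 8)) i != i).toFinset.map Fin.castSuccEmb := by
    ext j
    rw [Perm.mem_support]
    induction j using Fin.lastCases with
    | last =>
      simp only [emb_last, ne_eq, not_true_eq_false, false_iff, Finset.mem_map]
      rintro ⟨i, -, hi⟩
      exact (Fin.castSucc_lt_last i).ne hi
    | cast i =>
      rw [emb_castSucc]
      simp [Finset.mem_map]
  rw [h, Finset.card_map, List.toFinset_card_of_nodup ((List.nodup_finRange 8).filter _)]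

theorem half_range {π : A8} (h1 : Commute π k1) (hx : Commute π xb) :
    ((π : Perm (Fin 8)) 0).val < 4 ∧ ((π : Perm (Fin 8)) 2).val < 4 ∧
      4 ≤ ((π : Perm (Fin 8)) 4).val ∧ 4 ≤ ((π : Perm (Fin 8)) 6).val := by
  have fk : ∀ i : Fin 8, (k1 : Perm (Fin 8)) i ≠ i ↔ i.val < 4 := by decide +kernel
  have fx : ∀ i : Fin 8, (xb : Perm (Fin 8)) i ≠ i ↔ 4 ≤ i.val := by decide +kernel
  have key : ∀ (σ : A8) (i : Fin 8), Commute π σ → (σ : Perm (Fin 8)) i ≠ i →
      (σ : Perm (Fin 8)) ((π : Perm (Fin 8)) i) ≠ (π : Perm (Fin 8)) i := fun σ i hc hi e =>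
    hi ((π : Perm (Fin 8)).injective ((commute_apply hc i).trans e))
  exact ⟨(fk _).mp (key k1 0 h1 ((fk 0).mpr (by decide))), (fk _).mp (key k1 2 h1 ((fk 2).mpr (by decide))),
    (fx _).mp (key xb 4 hx ((fx 4).mpr (by decide))), (fx _).mp (key xb 6 hx ((fx 6).mpr (by decide)))⟩

theorem k_pair {π : A8} (h1 : Commute π k1) (hx : Commute π xb) (hsq : π * π = 1)
    (s1 : ((emb π : A9) : Perm (Fin 9)).support.card = 4) (s2 : ((emb (k1 * π) : A9) : Perm (Fin 9)).support.card = 4)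
    (s3 : ((emb (π * e0) : A9) : Perm (Fin 9)).support.card = 8) : π = k2 ∨ π = k1 * k2 := by
  obtain ⟨ha, hb, hc, hd⟩ := half_range h1 hx
  have h := half_values ⟨_, ha⟩ ⟨_, hb⟩ ⟨((π : Perm (Fin 8)) 4).val - 4, by omega⟩ ⟨((π : Perm (Fin 8)) 6).val - 4, by omega⟩
  obtain ⟨f, hf⟩ : ∃ f : Fin 8 → Fin 8, f = ⇑(π : Perm (Fin 8)) := ⟨_, rfl⟩
  have e4 : (⟨((π : Perm (Fin 8)) 4).val - 4 + 4, by omega⟩ : Fin 8) = (π : Perm (Fin 8)) 4 := Fin.ext (by simp; omega)
  have e6 : (⟨((π : Perm (Fin 8)) 6).val - 4 + 4, by omega⟩ : Fin 8) = (π : Perm (Fin 8)) 6 := Fin.ext (by simp; omega)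
  have hfe : f = ![(π : Perm (Fin 8)) 0, (k1 : Perm (Fin 8)) ((π : Perm (Fin 8)) 0), (π : Perm (Fin 8)) 2,
      (k1 : Perm (Fin 8)) ((π : Perm (Fin 8)) 2), (π : Perm (Fin 8)) 4, (xb : Perm (Fin 8)) ((π : Perm (Fin 8)) 4),
      (π : Perm (Fin 8)) 6, (xb : Perm (Fin 8)) ((π : Perm (Fin 8)) 6)] := by
    funext i
    rw [hf]
    fin_cases i
    · rfl
    · exact commute_apply h1 0
    · rfl
    · exact commute_apply h1 2
    · rfl
    · exact commute_apply hx 4
    · rfl
    · exact commute_apply hx 6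
  simp only [e4, e6, Fin.eta, ← hfe] at h
  rw [emb_moved] at s1 s2 s3
  rw [hf] at h
  rcases h (fun i => congrArg (fun q : A8 => (q : Perm (Fin 8)) i) hsq) s1 s2 s3 with e | e
  · exact Or.inl (Subtype.ext (Equiv.ext e))
  · exact Or.inr (Subtype.ext (Equiv.ext e))

theorem gen_checks : (∀ i : Fin 6, ∀ j : Fin 8,
    ((gens9 i.castSucc : A9) : Perm (Fin 9)) j.castSucc = ((AltEightLocal.gens i : Perm (Fin 8)) j).castSucc) ∧
    (∀ i : Fin 6, ((gens9 i.castSucc : A9) : Perm (Fin 9)) (Fin.last 8) = Fin.last 8) ∧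
    sameVal (AltEightLocal.gens 0) c0 = true ∧ sameVal (AltEightLocal.gens 1) k1 = true ∧
    sameVal (AltEightLocal.gens 2) h34 = true ∧ sameVal (AltEightLocal.gens 3) (el (swap 0 1 * swap 4 5)) = true ∧
    sameVal (AltEightLocal.gens 4) dE = true ∧ sameVal (AltEightLocal.gens 5) (el (swap 0 1 * swap 6 7)) = true ∧
    (∀ i : Fin 8, ((iN : A9) : Perm (Fin 9)) i.castSucc = ((k1 : Perm (Fin 8)) i).castSucc) ∧
    (iN : Perm (Fin 9)) (Fin.last 8) = Fin.last 8 ∧
    (∀ i : Fin 8, ((eN : A9) : Perm (Fin 9)) i.castSucc = ((e0 : Perm (Fin 8)) i).castSucc) ∧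
    (eN : Perm (Fin 9)) (Fin.last 8) = Fin.last 8 := by
  decide +kernel

namespace Hyp

variable {X : Type u} [Group X] [Finite X] (H : Hyp X)

/-- The homomorphism from the group of degree nine. -/
theorem exists_hom : ∃ φ : A9 →* X, Function.Injective φ ∧ (∀ π, φ (emb π) = H.ι π) ∧ H.L ≤ φ.range := by
  obtain ⟨κ, hκT, hk2, hka, hkc, hdk, hgen⟩ := H.exists_k
  obtain ⟨-, -, -, -, -, -, hdd, hda, hdc, hd0, hd1, hd34, hg3, hg5, -⟩ := elt_facts
  obtain ⟨c9, c9', g0, g1, g2, g3, g4, g5, -⟩ := gen_checks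
  obtain ⟨d, hd⟩ : ∃ d, d = H.ι dE := ⟨_, rfl⟩
  rw [← hd] at hdk
  have hd2 : d * d = 1 := by rw [hd, ← map_mul, eq_of_sameVal hdd, map_one]
  have di : d⁻¹ = d := inv_eq_of_mul_eq_one_right hd2
  have ki : κ⁻¹ = κ := inv_eq_of_mul_eq_one_right hk2
  obtain ⟨g, hg⟩ : ∃ g, g = d * κ := ⟨_, rfl⟩
  obtain ⟨x, hxdef⟩ : ∃ x : Fin 7 → X, x = Fin.snoc (fun i => H.ι (AltEightLocal.gens i)) g := ⟨_, rfl⟩
  have xc : ∀ i : Fin 6, x i.castSucc = H.ι (AltEightLocal.gens i) := fun i => by rw [hxdef, Fin.snoc_castSucc]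
  have xl : x (Fin.last 6) = g := by rw [hxdef, Fin.snoc_last]
  have dconj : ∀ {π σ : A8}, sameVal (dE * π * dE) σ = true → d * H.ι π * d = H.ι σ := fun {π σ} h => by
    rw [hd, ← map_mul, ← map_mul, eq_of_sameVal h]
  obtain ⟨t0, t1, t34⟩ := H.mem_T.mp hκT
  have hgg : g * g = 1 := by
    rw [hg, show d * κ * (d * κ) = d * (κ * d) * κ by group, ← hdk, ← mul_assoc d d κ, hd2, one_mul, hk2]
  have dl : ∀ {π σ : A8}, sameVal (dE * π * dE) σ = true → H.ι π * d = d * H.ι σ := fun {π σ} h => by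
    rw [← dconj h, ← mul_assoc, ← mul_assoc, hd2, one_mul]
  have flip0 : (H.ι c0 * g) * (H.ι c0 * g) = 1 := by
    have e := dl hd0
    rw [map_inv] at e
    calc H.ι c0 * g * (H.ι c0 * g) = (H.ι c0 * d) * (κ * H.ι c0) * (d * κ) := by rw [hg]; group
      _ = (d * (H.ι c0)⁻¹) * (H.ι c0 * κ) * (κ * d) := by rw [e, t0.eq, hdk]
      _ = d * (κ * κ) * d := by group
      _ = 1 := by rw [hk2, mul_one, hd2]
  have com : ∀ {π : A8}, Commute κ (H.ι π) → sameVal (dE * π * dE) π = true → Commute (H.ι π) g := fun {π} h e => by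
    rw [hg]
    exact Commute.mul_right (dl e) h.symm
  have ed : (H.ι aE)⁻¹ * d = d * H.ι aE := by
    have e := dconj hda
    rw [map_inv] at e
    calc (H.ι aE)⁻¹ * d = d * H.ι aE * d * d := by rw [e]
      _ = d * H.ι aE := by rw [mul_assoc, hd2, mul_one]
  have e' : (H.ι aE)⁻¹ * κ = κ * H.ι aE := by
    rw [← hka, mul_assoc, mul_assoc, hk2, mul_one]
  have ek : H.ι aE * κ = κ * (H.ι aE)⁻¹ := by
    calc H.ι aE * κ = κ * ((κ * H.ι aE) * κ) := by rw [← mul_assoc, ← mul_assoc, hk2, one_mul]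
      _ = κ * (H.ι aE)⁻¹ := by rw [hka]
  have c3 : Commute (H.ι (el (swap 0 1 * swap 4 5))) g := by
    rw [eq_of_sameVal hg3, map_mul, map_inv, ← hd, hg]
    show d * (H.ι aE)⁻¹ * (d * κ) = d * κ * (d * (H.ι aE)⁻¹)
    calc d * (H.ι aE)⁻¹ * (d * κ) = d * ((H.ι aE)⁻¹ * d) * κ := by group
      _ = (d * d) * (H.ι aE * κ) := by rw [ed]; group
      _ = (d * d) * (κ * (H.ι aE)⁻¹) := by rw [ek]
      _ = d * (d * κ) * (H.ι aE)⁻¹ := by group
      _ = d * (κ * d) * (H.ι aE)⁻¹ := by rw [hdk]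
      _ = d * κ * (d * (H.ι aE)⁻¹) := by group
  have c4 : Commute (H.ι dE) g := by
    rw [← hd, hg]; exact Commute.mul_right (Commute.refl d) hdk
  have br : (H.ι (el (swap 0 1 * swap 6 7)) * g) * (H.ι (el (swap 0 1 * swap 6 7)) * g) *
      (H.ι (el (swap 0 1 * swap 6 7)) * g) = 1 := by
    have e5 : H.ι (el (swap 0 1 * swap 6 7)) * d = (H.ι cE)⁻¹ := by
      rw [hd, ← map_mul, eq_of_sameVal hg5, map_inv]
    rw [hg, show H.ι (el (swap 0 1 * swap 6 7)) * (d * κ) = (H.ι cE)⁻¹ * κ by rw [← mul_assoc, e5]]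
    exact inverting_sq hkc hk2
  have sq : ∀ {π : A8}, π * π = 1 → Commute (H.ι π) g → (H.ι π * g) ^ 2 = 1 := fun {π} h hc => by
    rw [pow_two, hc.symm.mul_mul_mul_comm, ← map_mul, h, map_one, one_mul, hgg]
  have inv2 : ∀ i : Fin 6, 1 ≤ i.val → AltEightLocal.gens i * AltEightLocal.gens i = 1 := by decide +kernel
  have rel8 : ∀ r ∈ AltEightLocal.rels, FreeGroup.lift (fun i => H.ι (AltEightLocal.gens i)) r = 1 := by
    intro r hr
    have : FreeGroup.lift (fun i => H.ι (AltEightLocal.gens i)) = H.ι.comp (FreeGroup.lift AltEightLocal.gens) :=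
      FreeGroup.ext_hom _ _ fun i => by simp
    rw [this, MonoidHom.comp_apply, AltEightLocal.gens_rels r hr, map_one]
  have low : ∀ i : Fin 7, i = Fin.last 6 ∨ ∃ j : Fin 6, i = j.castSucc := fun i => by
    induction i using Fin.lastCases with
    | last => exact Or.inl rfl
    | cast j => exact Or.inr ⟨j, rfl⟩
  have hrels : ∀ r ∈ rels9, FreeGroup.lift x r = 1 := by
    refine rels9_of x ?_ (fun i hi => ?_) (fun i j hij => ?_) (fun i j hij => ?_)
    · rw [show (0 : Fin 7) = (0 : Fin 6).castSucc from rfl, xc, ← map_pow,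
        show AltEightLocal.gens 0 ^ 3 = 1 by decide +kernel, map_one]
    · rcases low i with rfl | ⟨i, rfl⟩
      · rw [xl, pow_two, hgg]
      · rw [xc, ← map_pow, pow_two, inv2 i (by simpa using hi), map_one]
    · rcases low j with rfl | ⟨j, rfl⟩
      · rcases low i with rfl | ⟨i, rfl⟩
        · omega
        · have : i = 5 := Fin.ext (by simp at hij; omega)
          subst this
          rw [xc, xl, eq_of_sameVal g5, pow_three, ← mul_assoc]
          exact br
      · rcases low i with rfl | ⟨i, rfl⟩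
        · simp at hij; omega
        · rw [xc, xc, ← map_mul, ← map_pow]
          have := rel8 ((FreeGroup.of i * FreeGroup.of j) ^ 3) (Or.inl (Or.inr ⟨i, j, by simpa using hij, rfl⟩))
          simpa [map_pow, map_mul] using this
    · rcases low i with rfl | ⟨i, rfl⟩
      · simp at hij; omega
      · rcases low j with rfl | ⟨j, rfl⟩
        · rw [xc, xl]
          have hi : i.val < 5 := by simp at hij; omega
          obtain h | h | h | h | h : i = 0 ∨ i = 1 ∨ i = 2 ∨ i = 3 ∨ i = 4 :=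
            (by decide : ∀ i : Fin 6, i.val < 5 → i = 0 ∨ i = 1 ∨ i = 2 ∨ i = 3 ∨ i = 4) i hi <;> subst h
          · rw [eq_of_sameVal g0, pow_two]; exact flip0
          · exact sq (inv2 1 le_rfl) (by rw [eq_of_sameVal g1]; exact com t1 hd1)
          · exact sq (inv2 2 (by decide)) (by rw [eq_of_sameVal g2]; exact com t34 hd34)
          · exact sq (inv2 3 (by decide)) (by rw [eq_of_sameVal g3]; exact c3)
          · exact sq (inv2 4 (by decide)) (by rw [eq_of_sameVal g4]; exact c4)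
        · rw [xc, xc, ← map_mul, ← map_pow]
          have := rel8 ((FreeGroup.of i * FreeGroup.of j) ^ 2) (Or.inr ⟨i, j, by simpa using hij, rfl⟩)
          simpa [map_pow, map_mul] using this
  obtain ⟨e, he⟩ := gens9_iso
  obtain ⟨φ, hφ⟩ : ∃ φ : A9 →* X, φ = (PresentedGroup.toGroup hrels).comp e.symm.toMonoidHom := ⟨_, rfl⟩
  have hφg : ∀ i, φ (gens9 i) = x i := fun i => by
    rw [hφ, MonoidHom.comp_apply, ← he i]
    show PresentedGroup.toGroup hrels (e.symm (e (PresentedGroup.of i))) = x i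
    rw [MulEquiv.symm_apply_apply, PresentedGroup.toGroup.of]
  have hemb : φ.comp emb = H.ι := by
    refine MonoidHom.eq_of_eqOn_dense gens_closure ?_
    rintro _ ⟨i, rfl⟩
    rw [MonoidHom.comp_apply, emb_eq (σ := gens9 i.castSucc) (c9 i) (c9' i), hφg, xc]
  haveI : IsSimpleGroup A9 := alternatingGroup.isSimpleGroup (by simp)
  have hinj : Function.Injective φ := by
    rw [← MonoidHom.ker_eq_bot_iff]
    refine φ.normal_ker.eq_bot_or_eq_top.resolve_right fun h => ?_
    have h0 : φ (gens9 0) = 1 := h.ge (mem_top _)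
    rw [hφg, show (0 : Fin 7) = (0 : Fin 6).castSucc from rfl, xc, ← map_one H.ι] at h0
    exact absurd (H.inj h0) (by decide +kernel)
  refine ⟨φ, hinj, fun π => congrArg (fun f => f π) hemb, fun y hy => ?_⟩
  have hle : closure (insert κ (Set.range H.ι)) ≤ φ.range := by
    rw [closure_le]
    rintro _ (rfl | ⟨π, rfl⟩)
    · refine ⟨emb dE * gens9 (Fin.last 6), ?_⟩
      rw [map_mul, hφg, xl, show φ (emb dE) = H.ι dE from congrArg (fun f => f dE) hemb, ← hd, hg, ← mul_assoc, hd2,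
        one_mul]
    · exact ⟨emb π, congrArg (fun f => f π) hemb⟩
  exact hle (hgen y hy)

/-- The group is the alternating group of degree nine. -/
theorem exists_iso : ∃ e : A9 ≃* X, ∀ π, e (emb π) = H.ι π := by
  obtain ⟨φ, hφ, hemb, hL⟩ := H.exists_hom
  obtain ⟨-, -, -, -, -, -, -, -, ci, cil, ce, cel⟩ := gen_checks
  obtain ⟨he0, -, -, hc2, hc3, -⟩ := elt_facts
  have fi : φ iN = H.ι k1 := by rw [← emb_eq (π := k1) ci cil, hemb]
  have fe : φ eN = H.ι e0 := by rw [← emb_eq (π := e0) ce cel, hemb]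
  have hrange : H.ι.range ≤ φ.range := by
    rintro _ ⟨π, rfl⟩
    exact ⟨emb π, hemb π⟩
  -- involutions of the subgroup
  have dich : ∀ v ∈ φ.range, v * v = 1 → v ≠ 1 →
      (∃ y ∈ φ.range, y * H.ι k1 * y⁻¹ = v) ∨ ∃ y ∈ φ.range, y * H.ι e0 * y⁻¹ = v := by
    rintro _ ⟨π, rfl⟩ hv h1
    have hπ : π * π = 1 := hφ (by rw [map_mul, hv, map_one])
    rcases invol_class hπ (fun e => h1 (by rw [e, map_one])) with h | h <;> obtain ⟨y, hy⟩ := isConj_iff.mp h
    · exact Or.inl ⟨φ y, ⟨y, rfl⟩, by rw [← fi, ← map_inv, ← map_mul, ← map_mul, hy]⟩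
    · exact Or.inr ⟨φ y, ⟨y, rfl⟩, by rw [← fe, ← map_inv, ← map_mul, ← map_mul, hy]⟩
  have four : ∀ π : A8, π * π = 1 → π ≠ 1 → ¬ IsConj (H.ι e0) (H.ι π) →
      ((emb π : A9) : Perm (Fin 9)).support.card = 4 := by
    intro π hπ h1 hn
    have hsq : emb π * emb π = 1 := by rw [← map_mul, hπ, map_one]
    rcases invol_class hsq (fun e => h1 (emb_inj (e.trans (map_one emb).symm))) with h | h
    · obtain ⟨y, hy⟩ := isConj_iff.mp h
      have := congrArg (fun σ : A9 => (σ : Perm (Fin 9)).support.card) hy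
      simp only [Subgroup.coe_mul, InvMemClass.coe_inv, Perm.card_support_conj] at this
      rw [← this]; exact type_facts.1
    · refine absurd (φ.map_isConj h) ?_
      rw [fe, hemb]; exact hn
  have eight : ∀ π : A8, π * π = 1 → π ≠ 1 → IsConj (H.ι e0) (H.ι π) →
      ((emb π : A9) : Perm (Fin 9)).support.card = 8 := by
    intro π hπ h1 hn
    have hsq : emb π * emb π = 1 := by rw [← map_mul, hπ, map_one]
    rcases invol_class hsq (fun e => h1 (emb_inj (e.trans (map_one emb).symm))) with h | h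
    · refine absurd ((φ.map_isConj h)) ?_
      rw [fi, hemb]
      exact fun h' => H.sep (h'.trans hn.symm)
    · obtain ⟨y, hy⟩ := isConj_iff.mp h
      have := congrArg (fun σ : A9 => (σ : Perm (Fin 9)).support.card) hy
      simp only [Subgroup.coe_mul, InvMemClass.coe_inv, Perm.card_support_conj] at this
      rw [← this]; exact type_facts.2.1
  have centE : ∀ v ∈ φ.range, v * v = 1 → v ≠ 1 → IsConj (H.ι e0) v → ∀ w, Commute w v → w ∈ φ.range := by
    intro v hv hvv hv1 hc w hw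
    rcases dich v hv hvv hv1 with ⟨y, hy, e⟩ | ⟨y, hy, e⟩
    · exact absurd ((isConj_iff.mpr ⟨y, e⟩).trans hc.symm) H.sep
    · have h : y⁻¹ * w * y ∈ φ.range := hrange (H.cent _ (by
        have := (Commute.conj_iff y⁻¹).mpr hw
        rw [← e] at this
        simpa [mul_assoc] using this))
      have := mul_mem (mul_mem hy h) (inv_mem hy)
      simpa [mul_assoc] using this
  have transfer : ∀ (h : X) (v : A8), v * v = 1 → v ≠ 1 → IsConj (H.ι e0) (H.ι v) → h * H.ι v * h⁻¹ ∈ φ.range →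
      h ∈ φ.range := by
    intro h v hv hv1 hc hmem
    have hvv : H.ι v * H.ι v = 1 := by rw [← map_mul, hv, map_one]
    have hne : H.ι v ≠ 1 := fun e => hv1 (H.inj (e.trans (map_one _).symm))
    obtain ⟨w, hw⟩ : ∃ w, w = h * H.ι v * h⁻¹ := ⟨_, rfl⟩
    have hww : w * w = 1 := by
      rw [hw, show h * H.ι v * h⁻¹ * (h * H.ι v * h⁻¹) = h * (H.ι v * H.ι v) * h⁻¹ by group, hvv]; group
    have hw1 : w ≠ 1 := fun e => hne (conj_eq_one_iff.mp (hw ▸ e))
    have hwc : IsConj (H.ι e0) w := hc.trans (isConj_iff.mpr ⟨h, hw.symm⟩)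
    rcases dich _ (hrange ⟨v, rfl⟩) hvv hne with ⟨y, hy, e⟩ | ⟨y, hy, e⟩
    · exact absurd ((isConj_iff.mpr ⟨y, e⟩).trans hc.symm) H.sep
    rcases dich w (hw ▸ hmem) hww hw1 with ⟨y', hy', e'⟩ | ⟨y', hy', e'⟩
    · exact absurd ((isConj_iff.mpr ⟨y', e'⟩).trans hwc.symm) H.sep
    have hc' : y'⁻¹ * h * y ∈ φ.range := hrange (H.cent _ (by
      rw [commute_iff_eq]
      have E : h * (y * H.ι e0 * y⁻¹) * h⁻¹ = y' * H.ι e0 * y'⁻¹ := by rw [e, e', hw]
      have := congrArg (fun t => y'⁻¹ * t * (h * y)) E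
      simpa [mul_assoc] using this))
    have := mul_mem (mul_mem hy' hc') (inv_mem hy)
    simpa [mul_assoc] using this
  have sqk : k1 * k1 = 1 ∧ e0 * e0 = 1 ∧ e0 ≠ 1 ∧ (k2 * xb) * (k2 * xb) = 1 ∧ k2 * xb ≠ 1 := by decide +kernel
  have conj2 : IsConj (H.ι e0) (H.ι (k2 * xb)) := by
    rw [← eq_of_sameVal hc2, map_mul H.ι (_ * e0), map_mul, map_inv]; exact isConj_iff.mpr ⟨_, rfl⟩
  have conj3 : IsConj (H.ι e0) (H.ι (k1 * k2 * xb)) := by
    rw [← eq_of_sameVal hc3, map_mul H.ι (_ * e0), map_mul, map_inv]; exact isConj_iff.mpr ⟨_, rfl⟩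
  have ck : Commute k1 xb ∧ Commute k1 k2 :=
    ⟨commute_of_commVal (by decide +kernel), commute_of_commVal elt_facts.2.1⟩
  -- the centralizer of the involution with two cycles
  have centI : ∀ h, Commute h (H.ι k1) → h ∈ φ.range := by
    intro h hh
    obtain ⟨o', ho'⟩ : ∃ o', o' = h * H.ι (k2 * xb) * h⁻¹ := ⟨_, rfl⟩
    have hmem : o' ∈ φ.range → h ∈ φ.range := fun hm => transfer h _ sqk.2.2.2.1 sqk.2.2.2.2 conj2 (ho' ▸ hm)
    have o2 : o' * o' = 1 := by
      rw [ho', show h * H.ι (k2 * xb) * h⁻¹ * (h * H.ι (k2 * xb) * h⁻¹) = h * (H.ι (k2 * xb) * H.ι (k2 * xb)) * h⁻¹ by group,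
        ← map_mul, sqk.2.2.2.1, map_one]; group
    have oe : H.ι e0 * H.ι e0 = 1 := by rw [← map_mul, sqk.2.1, map_one]
    have ce0 : Commute (H.ι e0) (H.ι k1) := by
      rw [← eq_of_sameVal he0, map_mul]
      exact (Commute.refl _).mul_left (ck.1.symm.map H.ι)
    have co' : Commute o' (H.ι k1) := by
      have := (Commute.conj_iff h).mpr ((ck.2.symm.mul_left ck.1.symm).map H.ι)
      rw [hh.eq, mul_inv_cancel_right] at this
      exact ho' ▸ this
    have zle : zpowers (H.ι e0 * o') ≤ centralizer ({H.ι k1} : Set X) :=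
      zpowers_le.mpr (mem_centralizer_singleton_iff.mpr (ce0.mul_left co'))
    have fused : ∀ {d v : X}, d ∈ zpowers (H.ι e0 * o') → (v = H.ι e0 ∨ v = o') → IsConj (H.ι e0) (d * v * d⁻¹) := by
      intro d v _ hv
      rcases hv with rfl | rfl
      · exact isConj_iff.mpr ⟨d, rfl⟩
      · exact conj2.trans (isConj_iff.mpr ⟨d * h, by rw [ho']; group⟩)
    rcases dihedral_centre oe o2 with ⟨d, hd, e⟩ | ⟨u, hu, hu1, -, hue, huo, ⟨d, hd, v, hv, e1⟩, -⟩
    · -- conjugate inside the centralizer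
      exfalso
      have hdk : Commute d (H.ι k1) := mem_centralizer_singleton_iff.mp (zle hd)
      have h' : Commute (h⁻¹ * d) (H.ι k1) := hh.inv_left.mul_left hdk
      refine H.sep ?_
      have e3 : (h⁻¹ * d) * (H.ι k1 * H.ι e0) * (h⁻¹ * d)⁻¹ = H.ι k1 * H.ι (k2 * xb) := by
        rw [show (h⁻¹ * d) * (H.ι k1 * H.ι e0) * (h⁻¹ * d)⁻¹ = (h⁻¹ * d) * H.ι k1 * (h⁻¹ * d)⁻¹ *
          (h⁻¹ * (d * H.ι e0 * d⁻¹) * h) by group, e, ho', h'.eq, mul_inv_cancel_right]
        group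
      refine IsConj.trans ?_ conj3.symm
      refine IsConj.trans (isConj_iff.mpr ⟨H.ι (el (swap 0 4 * swap 1 5 * swap 2 6 * swap 3 7)), ?_⟩)
        ((isConj_iff.mpr ⟨h⁻¹ * d, e3⟩).trans (by rw [← map_mul, ← mul_assoc]))
      rw [← map_inv, ← map_mul, ← map_mul, ← map_mul, eq_of_sameVal elt_facts.2.2.2.2.2.1]
      congr 1
      rw [← eq_of_sameVal he0, ← mul_assoc, sqk.1, one_mul]
    · obtain ⟨π, hπ⟩ := H.cent u hue
      have hk : Commute u (H.ι k1) := mem_centralizer_singleton_iff.mp (zle hu)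
      by_cases hA : IsConj (H.ι e0) u
      · refine hmem (centE u (hπ ▸ hrange ⟨π, rfl⟩) ?_ hu1 hA o' huo.symm)
        obtain ⟨g, hg⟩ := isConj_iff.mp hA
        rw [← hg, show g * H.ι e0 * g⁻¹ * (g * H.ι e0 * g⁻¹) = g * (H.ι e0 * H.ι e0) * g⁻¹ by group, oe]; group
      rw [← hπ] at hk hue hu1 hA huo e1
      have c1 := H.comm_of_map hk
      have ce := H.comm_of_map hue
      rw [← eq_of_sameVal he0] at ce
      have hx : Commute π xb := by
        have := c1.mul_right ce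
        rwa [← mul_assoc, sqk.1, one_mul] at this
      have hπ1 : π ≠ 1 := fun e => hu1 (by rw [e, map_one])
      have conjsq : ∀ w : A8, IsConj (H.ι e0) (H.ι w) → w * w = 1 ∧ w ≠ 1 := fun w hw => by
        obtain ⟨g, hg⟩ := isConj_iff.mp hw
        refine ⟨H.inj ?_, fun e => ?_⟩
        · rw [map_mul, ← hg, show g * H.ι e0 * g⁻¹ * (g * H.ι e0 * g⁻¹) = g * (H.ι e0 * H.ι e0) * g⁻¹ by group, oe,
            map_one]; group
        · rw [e, map_one] at hg
          exact sqk.2.2.1 (H.inj ((conj_eq_one_iff.mp hg).trans (map_one _).symm))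
      have f3 : IsConj (H.ι e0) (H.ι (π * e0)) := by
        rw [map_mul, hue.eq, e1]; exact fused hd hv
      obtain ⟨q3, n3⟩ := conjsq _ f3
      have hππ : π * π = 1 := by
        have h := q3
        rw [(H.comm_of_map hue).symm.mul_mul_mul_comm, sqk.2.1, mul_one] at h
        exact h
      by_cases hB : IsConj (H.ι e0) (H.ι (k1 * π))
      · refine hmem (centE (H.ι (k1 * π)) (hrange ⟨_, rfl⟩) ?_ ?_ hB o' ?_)
        · rw [← map_mul, (conjsq _ hB).1, map_one]
        · exact fun e => (conjsq _ hB).2 (H.inj (e.trans (map_one _).symm))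
        · rw [map_mul]; exact co'.mul_right huo.symm
      have hne : k1 * π ≠ 1 := fun e => by
        have e' : π = k1 := by rw [← mul_right_inj k1, e, sqk.1]
        rw [e', ← eq_of_sameVal he0, ← mul_assoc, sqk.1, one_mul] at f3
        refine H.sep ?_
        refine IsConj.trans (isConj_iff.mpr ⟨H.ι (el (swap 0 4 * swap 1 5 * swap 2 6 * swap 3 7)), ?_⟩) f3.symm
        rw [← map_inv, ← map_mul, ← map_mul, eq_of_sameVal elt_facts.2.2.2.2.2.1]
      have hkπ : (k1 * π) * (k1 * π) = 1 := by rw [c1.mul_mul_mul_comm, sqk.1, hππ, one_mul]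
      refine hmem (hL (H.mem_L.mpr ⟨co', ?_⟩))
      rcases k_pair c1 hx hππ (four π hππ hπ1 hA) (four _ hkπ hne hB) (eight _ q3 n3 f3) with e | e
      · rw [← e]; exact huo.symm
      · have : k2 = k1 * π := by rw [e, ← mul_assoc, sqk.1, one_mul]
        rw [this, map_mul]
        exact co'.mul_right huo.symm
  have centAll : ∀ v ∈ φ.range, v * v = 1 → v ≠ 1 → ∀ w, Commute w v → w ∈ φ.range := by
    intro v hv hvv hv1 w hw
    rcases dich v hv hvv hv1 with ⟨y, hy, e⟩ | ⟨y, hy, e⟩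
    · have h : y⁻¹ * w * y ∈ φ.range := centI _ (by
        have := (Commute.conj_iff y⁻¹).mpr hw
        rw [← e] at this
        simpa [mul_assoc] using this)
      have := mul_mem (mul_mem hy h) (inv_mem hy)
      simpa [mul_assoc] using this
    · exact centE v hv hvv hv1 (isConj_iff.mpr ⟨y, e⟩) w hw
  have htop : φ.range = ⊤ := by
    rw [eq_top_iff]
    intro g _
    obtain ⟨o, ho⟩ : ∃ o, o = g * H.ι e0 * g⁻¹ := ⟨_, rfl⟩
    refine transfer g e0 sqk.2.1 sqk.2.2.1 (IsConj.refl _) (ho ▸ ?_)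
    have i2 : H.ι k1 * H.ι k1 = 1 := by rw [← map_mul, sqk.1, map_one]
    have oe : H.ι e0 * H.ι e0 = 1 := by rw [← map_mul, sqk.2.1, map_one]
    have o2 : o * o = 1 := by
      rw [ho, show g * H.ι e0 * g⁻¹ * (g * H.ι e0 * g⁻¹) = g * (H.ι e0 * H.ι e0) * g⁻¹ by group, oe]; group
    rcases dihedral_centre i2 o2 with ⟨d, -, e⟩ | ⟨u, -, hu1, hsq, hui, huo, -, -⟩
    · exact absurd ((isConj_iff.mpr ⟨d, e⟩).trans (isConj_iff.mpr ⟨g⁻¹, by rw [ho]; group⟩)) H.sep
    · have hu : u ∈ φ.range := centI u hui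
      exact centAll u hu hsq hu1 o huo.symm
  exact ⟨MulEquiv.ofBijective φ ⟨hφ, MonoidHom.range_eq_top.mp htop⟩, hemb⟩

end Hyp

end Cfsg.Lib.ConwayType.Alt9
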